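import Cfsg.Agent.H613.KKL.Defs
import Cfsg.Agent.H644.Maximal
import Cfsg.Agent.H649.Transport
import Cfsg.Agent.S0973
import Cfsg.Agent.FastGrp
import Cfsg.Agent.Prune
set_option linter.all false
prune_inst 0x7f00000000000000000000000000000000000000000000000000000000000000000000000000000000000000000000000000000000000000000000000000000000000000000000000000000000000000003fffffffffffffffffffffffffffbeffbdffffffff
open scoped Cfsg.Agent.FastGrp

/-!
# S4546: A5, A6, A7, A7' (helper610)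

* `A5` : the configuration of a block with a character of positive height, from A1 - A4 (hypotheses for the given block);
* `A6` : quotient of a configuration by an odd centre;
* `A7`, `A7'` : transport along isomorphisms.
-/

set_option autoImplicit false

open Cfsg Cfsg.Agent.H613.KKL

namespace Cfsg.Agent.H610.KKL

universe u

/-! ### A5 -/

section A5

variable {G : Type u} [Group G] [Finite G] {M : Ideal AlgInt} {B : Set (IrrCharacter G)} {D : Subgroup G}

/-- A block of `C_G(D)` inducing `B` and its stabilizer. -/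
theorem exists_pair (hM : IsPModular 2 M) (hB : IsPBlock M B) (hD : IsDefectGroup 2 M B D) (h8 : E8 D) :
    ∃ (c : Set (IrrCharacter ↥(Subgroup.centralizer (D : Set G)))) (T : Subgroup G),
      IsInducedBlock M (Subgroup.centralizer (D : Set G)) c B ∧
      IsDefectGroup 2 M c (D.subgroupOf (Subgroup.centralizer (D : Set G))) ∧
      ∀ g : G, g ∈ T ↔ (g ∈ Subgroup.normalizer (D : Set G) ∧
        StabilizesBlock (Subgroup.centralizer (D : Set G)) c g) := by
  have : Fact (Nat.Prime 2) := ⟨Nat.prime_two⟩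
  have : M.IsPrime := hM.2.1.isPrime
  have hcomm : ∀ x ∈ D, ∀ y ∈ D, x * y = y * x := by
    intro x hx y hy
    have h1 := h8.inv _ (D.mul_mem hx hy)
    have h2 := h8.inv x hx
    have h3 := h8.inv y hy
    have e1 : x⁻¹ = x := inv_eq_of_mul_eq_one_left h2
    have e2 : y⁻¹ = y := inv_eq_of_mul_eq_one_left h3
    have e3 : (x * y)⁻¹ = x * y := inv_eq_of_mul_eq_one_left h1
    rw [← e3, mul_inv_rev, e1, e2]
  have hDC : D ≤ Subgroup.centralizer (D : Set G) := by
    intro x hx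
    rw [Subgroup.mem_centralizer_iff]
    intro y hy
    exact hcomm y hy x hx
  have hL : D ⊔ Subgroup.centralizer (D : Set G) = Subgroup.centralizer (D : Set G) :=
    sup_eq_right.2 hDC
  have key : ∀ L : Subgroup G, L = D ⊔ Subgroup.centralizer (D : Set G) →
      ∃ b : Set (IrrCharacter L), IsDefectGroup 2 M b (D.subgroupOf L) ∧
        IsInducedBlock M L b B := by
    rintro L rfl
    exact (S0973.result 2 M hM B hB D hD).1
  obtain ⟨c, hcD, hc⟩ := key _ hL.symm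
  exact ⟨c, H644.pairStab M D c, hc, hcD, fun g => H644.mem_pairStab_iff_stabilizesBlock hM hc.1⟩

/-- **A5**, from A1 - A4 for the given block. -/
theorem A5 (hM : IsPModular 2 M) (hB : IsPBlock M B) (hD : IsDefectGroup 2 M B D) (h8 : E8 D)
    (h1 : ∃ x : G, Odd (orderOf x) ∧ (∀ d ∈ D, d * x = x * d) ∧ ∀ Q : Subgroup G, IsPGroup 2 Q →
      (∀ q ∈ Q, q * x = x * q) → ∃ c : G, c * x = x * c ∧ ∀ q ∈ Q, c * q * c⁻¹ ∈ D)
    (h2 : ∀ R : Subgroup G, R ≤ D → ∀ N : Subgroup G, IsPGroup 2 N →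
      N ≤ Subgroup.centralizer (R : Set G) →
      (∀ c ∈ Subgroup.centralizer (R : Set G), ∀ n ∈ N, c * n * c⁻¹ ∈ N) → N ≤ D)
    (h3 : ∀ (c : Set (IrrCharacter ↥(Subgroup.centralizer (D : Set G))))
      (_ : IsInducedBlock M (Subgroup.centralizer (D : Set G)) c B) (T : Subgroup G)
      (_ : ∀ g : G, g ∈ T ↔ (g ∈ Subgroup.normalizer (D : Set G) ∧
        StabilizesBlock (Subgroup.centralizer (D : Set G)) c g))
      (_ : 7 ∣ (Subgroup.centralizer (D : Set G)).relIndex T),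
      ∃ (θ : IrrCharacter ↥(Subgroup.centralizer (D : Set G))) (y : G),
        (∀ d e : ↥(Subgroup.centralizer (D : Set G)), (d : G) ∈ D →
          (θ : ↥(Subgroup.centralizer (D : Set G)) → ℂ) (d * e) = (θ : ↥(Subgroup.centralizer (D : Set G)) → ℂ) e) ∧
        (charDegree (θ : ↥(Subgroup.centralizer (D : Set G)) → ℂ)).factorization 2 + 3 =
          (Nat.card ↥(Subgroup.centralizer (D : Set G))).factorization 2 ∧
        Seven D y ∧ ∀ e e' : ↥(Subgroup.centralizer (D : Set G)), (e' : G) = y * e * y⁻¹ →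
          (θ : ↥(Subgroup.centralizer (D : Set G)) → ℂ) e' = (θ : ↥(Subgroup.centralizer (D : Set G)) → ℂ) e)
    (h4 : ∀ (c : Set (IrrCharacter ↥(Subgroup.centralizer (D : Set G))))
      (_ : IsInducedBlock M (Subgroup.centralizer (D : Set G)) c B) (T : Subgroup G)
      (_ : ∀ g : G, g ∈ T ↔ (g ∈ Subgroup.normalizer (D : Set G) ∧
        StabilizesBlock (Subgroup.centralizer (D : Set G)) c g))
      (_ : ¬ 7 ∣ (Subgroup.centralizer (D : Set G)).relIndex T), ∀ χ ∈ B, blockHeight 2 B (χ : G → ℂ) = 0)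
    {χ : IrrCharacter G} (hχ : χ ∈ B) (hh : blockHeight 2 B (χ : G → ℂ) ≠ 0) :
    ∃ (x : G) (θ : IrrCharacter ↥(Subgroup.centralizer (D : Set G))), CfgB D x θ := by
  obtain ⟨c, T, hc, -, hT⟩ := exists_pair hM hB hD h8
  have h7 : 7 ∣ (Subgroup.centralizer (D : Set G)).relIndex T := by
    by_contra h7
    exact hh (h4 c hc T hT h7 χ hχ)
  obtain ⟨θ, y, hker, hzero, hy, hinv⟩ := h3 c hc T hT h7
  obtain ⟨x, hx1, hx2, hx3⟩ := h1
  have hc0 : Cfg0 D x := ⟨h8, hx1, hx2, hx3, ⟨y, hy⟩, h2⟩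
  exact ⟨x, θ, ⟨hc0, hker, hzero, ⟨y, hy, hinv⟩⟩⟩

end A5

/-! ### A6 -/

/-- the commutator of a 2-element with an element, if it is a central element of odd order -/
theorem comm_of_central {K : Type*} [Group K] {g x z : K} (hz : z ∈ Subgroup.center K) (hodd : Odd (orderOf z))
    {k : ℕ} (hg : g ^ 2 ^ k = 1) (h : g * x * g⁻¹ = z * x) : g * x = x * g := by
  have hzc : ∀ a : K, a * z = z * a := Subgroup.mem_center_iff.1 hz
  have key : ∀ n : ℕ, g ^ n * x * (g ^ n)⁻¹ = z ^ n * x := by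
    intro n
    induction n with
    | zero => simp
    | succ n ih =>
      have e1 : g ^ (n + 1) * x * (g ^ (n + 1))⁻¹ = g * (g ^ n * x * (g ^ n)⁻¹) * g⁻¹ := by
        rw [pow_succ']; group
      have e2 : g * z ^ n = z ^ n * g := ((show Commute g z from hzc g).pow_right n).eq
      rw [e1, ih, ← mul_assoc g, e2, mul_assoc (z ^ n), mul_assoc (z ^ n), h, pow_succ, mul_assoc]
  have h1 := key (2 ^ k)
  rw [hg, one_mul, inv_one, mul_one] at h1
  have h2 : z ^ 2 ^ k = 1 := by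
    have h3 : z ^ 2 ^ k * x = 1 * x := by rw [one_mul]; exact h1.symm
    exact mul_right_cancel h3
  have h3 : orderOf z ∣ 2 ^ k := orderOf_dvd_of_pow_eq_one h2
  have h4 : orderOf z = 1 := Nat.Coprime.eq_one_of_dvd ((Nat.Coprime.pow_right k hodd.coprime_two_right)) h3
  rw [orderOf_eq_one_iff.1 h4, one_mul] at h
  exact mul_inv_eq_iff_eq_mul.1 h

/-- an element commuting with `x` modulo a central subgroup of odd order -/
theorem comm_of_mk {K : Type*} [Group K] [Finite K] {Z : Subgroup K} [Z.Normal] (hZ : Z ≤ Subgroup.center K)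
    (hodd : Odd (Nat.card Z)) {g x : K} {k : ℕ} (hg : g ^ 2 ^ k = 1)
    (h : (g : K ⧸ Z) * (x : K ⧸ Z) = (x : K ⧸ Z) * (g : K ⧸ Z)) : g * x = x * g := by
  have h1 : ((g * x * g⁻¹ * x⁻¹ : K) : K ⧸ Z) = 1 := by
    rw [QuotientGroup.mk_mul, QuotientGroup.mk_mul, QuotientGroup.mk_mul, h, QuotientGroup.mk_inv, QuotientGroup.mk_inv]
    group
  have h2 : g * x * g⁻¹ * x⁻¹ ∈ Z := (QuotientGroup.eq_one_iff _).1 h1
  refine comm_of_central (z := g * x * g⁻¹ * x⁻¹) (hZ h2) ?_ hg (by group)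
  have h3 : orderOf (⟨g * x * g⁻¹ * x⁻¹, h2⟩ : Z) ∣ Nat.card Z := orderOf_dvd_natCard _
  rw [Subgroup.orderOf_mk] at h3
  exact Odd.of_dvd_nat hodd h3

/-- lift of a 2-subgroup -/
theorem exists_lift {K : Type*} [Group K] [Finite K] {Z : Subgroup K} [Z.Normal] (hZ : Z ≤ Subgroup.center K)
    (hodd : Odd (Nat.card Z)) {Q : Subgroup (K ⧸ Z)} (hQ : IsPGroup 2 Q) :
    ∃ P : Subgroup K, IsPGroup 2 P ∧ P.map (QuotientGroup.mk' Z) = Q ∧
      ∀ g : K, (g : K ⧸ Z) ∈ Q → (∃ k : ℕ, g ^ 2 ^ k = 1) → g ∈ P := by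
  have : Fact (Nat.Prime 2) := ⟨Nat.prime_two⟩
  set N : Subgroup K := Q.comap (QuotientGroup.mk' Z) with hN
  obtain ⟨P⟩ : Nonempty (Sylow 2 N) := inferInstance
  let f : N →* Q := (QuotientGroup.mk' Z).subgroupComap Q
  have hf : Function.Surjective f := by
    rintro ⟨q, hq⟩
    obtain ⟨g, rfl⟩ := QuotientGroup.mk'_surjective Z q
    exact ⟨⟨g, hq⟩, rfl⟩
  have hfP : (P : Subgroup N).map f = ⊤ := by
    have h1 : ((P : Subgroup N).map f).index ∣ (P : Subgroup N).index := Subgroup.index_map_dvd _ hf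
    have h2 : ¬ 2 ∣ (P : Subgroup N).index := P.not_dvd_index
    obtain ⟨k, hk⟩ := IsPGroup.iff_card.1 hQ
    have h3 : ((P : Subgroup N).map f).index ∣ 2 ^ k := by
      rw [← hk]
      exact Subgroup.index_dvd_card _
    obtain ⟨j, -, hj⟩ := (Nat.dvd_prime_pow Nat.prime_two).1 h3
    rw [← Subgroup.index_eq_one, hj]
    rcases Nat.eq_zero_or_pos j with h0 | h0
    · rw [h0, pow_zero]
    · exfalso
      apply h2
      refine (dvd_pow_self 2 h0.ne').trans ?_
      rw [← hj]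
      exact h1
  have hcov : ∀ q ∈ Q, ∃ g ∈ (P : Subgroup N).map N.subtype, (g : K ⧸ Z) = q := by
    intro q hq
    have h1 : (⟨q, hq⟩ : Q) ∈ (P : Subgroup N).map f := by rw [hfP]; exact Subgroup.mem_top _
    obtain ⟨g, hg, hgq⟩ := h1
    exact ⟨g, ⟨g, hg, rfl⟩, congrArg Subtype.val hgq⟩
  have hPp : IsPGroup 2 ((P : Subgroup N).map N.subtype) := P.isPGroup'.map _
  refine ⟨(P : Subgroup N).map N.subtype, hPp, ?_, ?_⟩
  · ext q
    constructor
    · rintro ⟨_, ⟨g, -, rfl⟩, rfl⟩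
      exact g.2
    · intro hq
      obtain ⟨g, hg, hgq⟩ := hcov q hq
      exact ⟨g, hg, hgq⟩
  · rintro g hg ⟨k, hk⟩
    obtain ⟨a, ha, haq⟩ := hcov _ hg
    have hz : a⁻¹ * g ∈ Z := QuotientGroup.eq.1 haq
    have hc : ∀ b : K, b * (a⁻¹ * g) = (a⁻¹ * g) * b := Subgroup.mem_center_iff.1 (hZ hz)
    obtain ⟨l, hl⟩ := hPp ⟨a, ha⟩
    have hl' : a ^ 2 ^ l = 1 := congrArg Subtype.val hl
    have hcm : Commute a (a⁻¹ * g) := hc a
    have h1 : (a⁻¹ * g) ^ 2 ^ (k + l) = 1 := by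
      have e1 : g = a * (a⁻¹ * g) := by group
      have e2 : g ^ 2 ^ (k + l) = a ^ 2 ^ (k + l) * (a⁻¹ * g) ^ 2 ^ (k + l) := by
        conv_lhs => rw [e1]
        exact hcm.mul_pow _
      have e3 : g ^ 2 ^ (k + l) = 1 := by rw [pow_add, pow_mul, hk, one_pow]
      have e4 : a ^ 2 ^ (k + l) = 1 := by rw [add_comm, pow_add, pow_mul, hl', one_pow]
      rw [e3, e4, one_mul] at e2
      exact e2.symm
    have h2 : orderOf (a⁻¹ * g) ∣ 2 ^ (k + l) := orderOf_dvd_of_pow_eq_one h1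
    have h3 : orderOf (⟨a⁻¹ * g, hz⟩ : Z) ∣ Nat.card Z := orderOf_dvd_natCard _
    rw [Subgroup.orderOf_mk] at h3
    have h4 : Odd (orderOf (a⁻¹ * g)) := Odd.of_dvd_nat hodd h3
    have h5 : orderOf (a⁻¹ * g) = 1 := Nat.Coprime.eq_one_of_dvd ((Nat.Coprime.pow_right _ h4.coprime_two_right)) h2
    have h6 : a⁻¹ * g = 1 := orderOf_eq_one_iff.1 h5
    rw [← inv_mul_eq_one.1 h6]
    exact ha

theorem pGroup_of_e8 {G : Type*} [Group G] {D : Subgroup G} (h : E8 D) : ∀ d ∈ D, d ^ 2 ^ 1 = 1 := by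
  intro d hd
  rw [pow_one, pow_two]
  exact h.inv d hd

/-- **A6** for a central subgroup of odd order. -/
theorem cfg0_quot {K : Type*} [Group K] [Finite K] {Z : Subgroup K} [Z.Normal] (hZ : Z ≤ Subgroup.center K)
    (hodd : Odd (Nat.card Z)) {D : Subgroup K} {x : K} (h : Cfg0 D x) :
    Cfg0 (D.map (QuotientGroup.mk' Z)) (x : K ⧸ Z) := by
  have hinj : ∀ a ∈ D, (a : K ⧸ Z) = 1 → a = 1 := by
    intro a ha h1
    have hz : a ∈ Z := (QuotientGroup.eq_one_iff _).1 h1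
    have h3 : orderOf (⟨a, hz⟩ : Z) ∣ Nat.card Z := orderOf_dvd_natCard _
    rw [Subgroup.orderOf_mk] at h3
    have h4 : Odd (orderOf a) := Odd.of_dvd_nat hodd h3
    have h5 : orderOf a ∣ 2 ^ 1 := orderOf_dvd_of_pow_eq_one (pGroup_of_e8 h.e8 a ha)
    exact orderOf_eq_one_iff.1 (Nat.Coprime.eq_one_of_dvd ((Nat.Coprime.pow_right _ h4.coprime_two_right)) h5)
  refine
    { e8 := ⟨?_, ?_⟩
      odd := ?_
      comm := ?_
      syl := ?_
      seven := ?_
      rad := ?_ }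
  · rw [← h.e8.card]
    symm
    refine Nat.card_congr (Equiv.ofBijective (fun d : D => (⟨QuotientGroup.mk' Z d, ⟨d, d.2, rfl⟩⟩ : D.map (QuotientGroup.mk' Z)))
      ⟨?_, ?_⟩)
    · intro a b hab
      have h1 : ((a : K) : K ⧸ Z) = ((b : K) : K ⧸ Z) := congrArg Subtype.val hab
      have h2 := hinj ((a : K)⁻¹ * b) (D.mul_mem (D.inv_mem a.2) b.2) ((QuotientGroup.eq_one_iff _).2 (QuotientGroup.eq.1 h1))
      exact Subtype.ext (inv_mul_eq_one.1 h2)
    · rintro ⟨_, ⟨d, hd, rfl⟩⟩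
      exact ⟨⟨d, hd⟩, rfl⟩
  · rintro _ ⟨d, hd, rfl⟩
    rw [← map_mul, h.e8.inv d hd, map_one]
  · exact Odd.of_dvd_nat h.odd (orderOf_map_dvd (QuotientGroup.mk' Z) x)
  · rintro _ ⟨d, hd, rfl⟩
    have := congrArg (QuotientGroup.mk' Z) (h.comm d hd)
    rwa [map_mul, map_mul] at this
  · intro Q hQ hQx
    obtain ⟨P, hP, hPQ, -⟩ := exists_lift hZ hodd hQ
    obtain ⟨c, hc, hcP⟩ := h.syl P hP (by
      intro q hq
      obtain ⟨k, hk⟩ := hP ⟨q, hq⟩
      exact comm_of_mk hZ hodd (k := k) (congrArg Subtype.val hk) (hQx _ (by rw [← hPQ]; exact ⟨q, hq, rfl⟩)))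
    refine ⟨(c : K ⧸ Z), ?_, ?_⟩
    · rw [← QuotientGroup.mk_mul, hc, QuotientGroup.mk_mul]
    · intro q hq
      rw [← hPQ] at hq
      obtain ⟨g, hg, rfl⟩ := hq
      exact ⟨c * g * c⁻¹, hcP g hg, rfl⟩
  · obtain ⟨y, hy⟩ := h.seven
    refine ⟨(y : K ⧸ Z), ?_, ?_, ?_⟩
    · intro d
      obtain ⟨d, rfl⟩ := QuotientGroup.mk'_surjective Z d
      constructor
      · rintro ⟨e, he, hed⟩
        have h1 : y⁻¹ * e * y ∈ D := by
          rw [← hy.norm]
          have : y * (y⁻¹ * e * y) * y⁻¹ = e := by group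
          rwa [this]
        refine ⟨_, h1, ?_⟩
        rw [map_mul, map_mul, hed, map_inv]
        show (y : K ⧸ Z)⁻¹ * ((y : K ⧸ Z) * (d : K ⧸ Z) * (y : K ⧸ Z)⁻¹) * (y : K ⧸ Z) = (d : K ⧸ Z)
        group
      · rintro ⟨e, he, hed⟩
        refine ⟨y * e * y⁻¹, (hy.norm e).2 he, ?_⟩
        rw [map_mul, map_mul, hed, map_inv]
        rfl
    · obtain ⟨m, hm⟩ := hy.seven
      have h1 : orderOf (y : K ⧸ Z) ∣ 7 ^ m := by
        rw [← hm]
        exact orderOf_map_dvd (QuotientGroup.mk' Z) y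
      obtain ⟨j, -, hj⟩ := (Nat.dvd_prime_pow (by norm_num)).1 h1
      exact ⟨j, hj⟩
    · rintro _ ⟨a, ha, rfl⟩ ha1 _ ⟨b, hb, rfl⟩ hb1
      obtain ⟨k, hk⟩ := hy.trans a ha (fun e => ha1 (by rw [e, map_one])) b hb (fun e => hb1 (by rw [e, map_one]))
      refine ⟨k, ?_⟩
      have := congrArg (QuotientGroup.mk' Z) hk
      rwa [map_mul, map_mul, map_inv, map_pow] at this
  · intro R hR N hN hNR hNn
    obtain ⟨P, hP, hPN, hPmem⟩ := exists_lift hZ hodd hN
    -- the preimage of `R` in `D`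
    let R' : Subgroup K := D ⊓ R.comap (QuotientGroup.mk' Z)
    have hR' : ∀ r ∈ R', r ∈ D ∧ (r : K ⧸ Z) ∈ R := fun r hr => ⟨hr.1, hr.2⟩
    have hRc : ∀ c : K, c ∈ Subgroup.centralizer (R' : Set K) → (c : K ⧸ Z) ∈ Subgroup.centralizer (R : Set (K ⧸ Z)) := by
      intro c hc
      rw [Subgroup.mem_centralizer_iff]
      intro r hr
      obtain ⟨d, hd, rfl⟩ := hR hr
      have h1 := Subgroup.mem_centralizer_iff.1 hc d ⟨hd, hr⟩
      have := congrArg (QuotientGroup.mk' Z) h1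
      rwa [map_mul, map_mul] at this
    have h1 := h.rad R' inf_le_left P hP ?_ ?_
    · intro n hn
      rw [← hPN] at hn
      obtain ⟨g, hg, rfl⟩ := hn
      exact ⟨g, h1 hg, rfl⟩
    · intro g hg
      rw [Subgroup.mem_centralizer_iff]
      intro r hr
      obtain ⟨hr1, hr2⟩ := hR' r hr
      have h2 : (g : K ⧸ Z) ∈ N := by rw [← hPN]; exact ⟨g, hg, rfl⟩
      have h3 := Subgroup.mem_centralizer_iff.1 (hNR h2) _ hr2
      exact comm_of_mk hZ hodd (k := 1) (pGroup_of_e8 h.e8 r hr1) h3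
    · intro c hc g hg
      apply hPmem
      · rw [QuotientGroup.mk_mul, QuotientGroup.mk_mul, QuotientGroup.mk_inv]
        apply hNn _ (hRc c hc)
        rw [← hPN]
        exact ⟨g, hg, rfl⟩
      · obtain ⟨k, hk⟩ := hP ⟨g, hg⟩
        have hk' : g ^ 2 ^ k = 1 := congrArg Subtype.val hk
        exact ⟨k, by rw [conj_pow, hk', mul_one, mul_inv_cancel]⟩

/-- **A6**: quotient by an odd centre. -/
theorem A6 {K : Type u} [Group K] [Finite K] (hZ : Odd (Nat.card ↥(Subgroup.center K))) {D : Subgroup K} {x : K}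
    (h : Cfg0 D x) : Cfg0 (D.map (QuotientGroup.mk' (Subgroup.center K))) (x : K ⧸ Subgroup.center K) :=
  cfg0_quot le_rfl hZ h

/-! ### A7 -/

/-- transport of a configuration -/
theorem cfg0_map {S S' : Type*} [Group S] [Group S'] (e : S ≃* S') {D : Subgroup S} {x : S} (h : Cfg0 D x) :
    Cfg0 (D.map e.toMonoidHom) (e x) := by
  have hmem : ∀ g : S', g ∈ D.map e.toMonoidHom ↔ e.symm g ∈ D := fun g => Subgroup.mem_map_equiv
  have hpull : ∀ {Q : Subgroup S'}, IsPGroup 2 Q → IsPGroup 2 (Q.map e.symm.toMonoidHom) := fun hQ => hQ.map _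
  have hmemQ : ∀ (Q : Subgroup S') (g : S), g ∈ Q.map e.symm.toMonoidHom ↔ e g ∈ Q := by
    intro Q g
    exact Subgroup.mem_map_equiv
  refine
    { e8 := ⟨?_, ?_⟩
      odd := ?_
      comm := ?_
      syl := ?_
      seven := ?_
      rad := ?_ }
  · rw [← h.e8.card]
    exact (Nat.card_congr (D.equivMapOfInjective e.toMonoidHom e.injective).toEquiv).symm
  · rintro _ ⟨d, hd, rfl⟩
    rw [← map_mul, h.e8.inv d hd, map_one]
  · rw [MulEquiv.orderOf_eq]
    exact h.odd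
  · rintro _ ⟨d, hd, rfl⟩
    show e d * e x = e x * e d
    rw [← map_mul, h.comm d hd, map_mul]
  · intro Q hQ hQx
    obtain ⟨c, hc, hcQ⟩ := h.syl (Q.map e.symm.toMonoidHom) (hpull hQ) (by
      intro q hq
      apply e.injective
      rw [map_mul, map_mul]
      exact hQx _ ((hmemQ Q q).1 hq))
    refine ⟨e c, by rw [← map_mul, hc, map_mul], fun q hq => ?_⟩
    rw [hmem, map_mul, map_mul, map_inv, e.symm_apply_apply]
    exact hcQ _ ((hmemQ Q _).2 (by rwa [e.apply_symm_apply]))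
  · obtain ⟨y, hy⟩ := h.seven
    refine ⟨e y, ?_, ?_, ?_⟩
    · intro d
      rw [hmem, hmem, map_mul, map_mul, map_inv, e.symm_apply_apply]
      exact hy.norm _
    · rw [MulEquiv.orderOf_eq]
      exact hy.seven
    · rintro _ ⟨a, ha, rfl⟩ ha1 _ ⟨b, hb, rfl⟩ hb1
      obtain ⟨k, hk⟩ := hy.trans a ha (fun e' => ha1 (by rw [e', map_one])) b hb (fun e' => hb1 (by rw [e', map_one]))
      refine ⟨k, ?_⟩
      show e y ^ k * e a * (e y ^ k)⁻¹ = e b
      rw [← hk, map_mul, map_mul, map_inv, map_pow]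
  · intro R hR N hN hNR hNn
    have h1 := h.rad (R.map e.symm.toMonoidHom) ?_ (N.map e.symm.toMonoidHom) (hpull hN) ?_ ?_
    · intro n hn
      rw [hmem]
      exact h1 ((hmemQ N _).2 (by rwa [e.apply_symm_apply]))
    · intro r hr
      have h2 := hR ((hmemQ R r).1 hr)
      rwa [hmem, e.symm_apply_apply] at h2
    · intro n hn
      rw [Subgroup.mem_centralizer_iff]
      intro r hr
      apply e.injective
      rw [map_mul, map_mul]
      exact Subgroup.mem_centralizer_iff.1 (hNR ((hmemQ N n).1 hn)) _ ((hmemQ R r).1 hr)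
    · intro c hc n hn
      rw [hmemQ, map_mul, map_mul, map_inv]
      apply hNn
      · rw [Subgroup.mem_centralizer_iff]
        intro r hr
        have h2 := Subgroup.mem_centralizer_iff.1 hc (e.symm r) ((hmemQ R _).2 (by rwa [e.apply_symm_apply]))
        have h3 := congrArg e h2
        rwa [map_mul, map_mul, e.apply_symm_apply] at h3
      · exact (hmemQ N n).1 hn

/-- **A7**: transport. -/
theorem A7 {S S' : Type*} [Group S] [Group S'] (e : S ≃* S') (h : NoCfg S') : NoCfg S :=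
  fun _ _ hc => h _ _ (cfg0_map e hc)

theorem e8_map {S S' : Type*} [Group S] [Group S'] (e : S ≃* S') {D : Subgroup S} (h : E8 D) :
    E8 (D.map e.toMonoidHom) := by
  refine ⟨?_, ?_⟩
  · rw [← h.card]
    exact (Nat.card_congr (D.equivMapOfInjective e.toMonoidHom e.injective).toEquiv).symm
  · rintro _ ⟨d, hd, rfl⟩
    rw [← map_mul, h.inv d hd, map_one]

/-- **A7'**: transport. -/
theorem A7' {S S' : Type*} [Group S] [Group S'] [Finite S] [Finite S'] (e : S ≃* S') (h : HZ S') : HZ S := by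
  intro M hM B hB D hD h8 χ hχ
  have h1 := h M hM (H649.blkMap e B) (H649.isPBlock_blkMap hB) (D.map e.toMonoidHom) (H649.isDefectGroup_blkMap hD)
    (e8_map e h8) (H649.irrMap e χ) (H649.irrMap_mem_blkMap.2 hχ)
  rwa [H649.blockHeight_blkMap] at h1

end Cfsg.Agent.H610.KKL
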