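import Cfsg.Agent.H608.KKL.C2_m3
import Cfsg.Agent.H466.KKL.A12_m3
import Cfsg.Agent.H610.KKL.Asm5
import Cfsg.Agent.TID.Red.R2
import Cfsg.Agent.H639.Sec
import Mathlib
import Cfsg.Agent.H617.AbelRank
import Cfsg.Agent.H608.KKL.C1
import Cfsg.Agent.S4698
import Cfsg.Agent.CTwoTab.Co3
import Cfsg.Agent.S2045
import Cfsg.Agent.H387.KKL.P4b
import Cfsg.Agent.H795.SetTor_m3
import Cfsg.Agent.H892.ElReg
import Cfsg.Agent.H557.OrbE8
import Cfsg.Agent.BpExc.EmbSplit
import Cfsg.Agent.Lib.ListFast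
import Cfsg.Agent.FastGrp
import Cfsg.Agent.Prune
set_option linter.all false

section
prune_inst 0x7f00000000000000000000000000000000000000000000000000000000000000000000000000000000000000000000000000000000000000000000000000000000000000000000000000000000000000003fffffffffffffffffffffffffffbeffbdfbfeffff

-- part: H608/KKL/C2_mg
section

end

-- part: H610/KKL/Final
section
set_option linter.all false

/-!
# S4546: the assembly of the local theory and of the reduction (helper610)

* `a5` : A5 with A1-A4 inserted;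
* `inputs` : the inputs of the reduction B9 (Schreier's property of the simple groups as a hypothesis);
* `main_of` : S4546 from the rows (quasisimple groups with odd centre).
-/

set_option autoImplicit false

open Cfsg Cfsg.Agent.H613.KKL

namespace Cfsg.Agent.H610.KKL

universe u

/-- Schreier's property of the finite simple groups -/
def SchAll : Prop :=
  ∀ (K : Type u) [Group K] [Finite K], IsQuasisimple K → Cfsg.Agent.Schreier.Basic.Sch (K ⧸ Subgroup.center K)

/-- A5 -/
theorem a5 : Cfsg.Agent.H38.KKL.PA5.{u} := fun hM _ hB _ hD h8 _ hχ hh =>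
  A5 hM hB hD h8 (Cfsg.Agent.H466.KKL.A1 hM hB hD h8) (Cfsg.Agent.H466.KKL.A2 hM hB hD h8)
    (fun c hc T hT h7 => Cfsg.Agent.H640.KKL.A3 hM hB hD h8 c hc T hT h7)
    (fun c hc T hT h7 => Cfsg.Agent.H990.KKL.A4 hM hB hD h8 c hc T hT h7) hχ hh

/-- the inputs of the reduction -/
theorem inputs (hS : SchAll.{u}) : Cfsg.Agent.H38.KKL.Inputs.{u} where
  a1 := fun hM _ hB _ hD h8 => Cfsg.Agent.H466.KKL.A1 hM hB hD h8
  a5 := a5
  b1 := fun hM _ hB _ hD h8 N _ b hb hst hcov hDN => Cfsg.Agent.H581.KKL.B1 hM hB hD h8 N b hb hst hcov hDN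
  b2 := fun hM _ hB _ hD h8 N _ b hb hst hcov hDN => Cfsg.Agent.H142.KKL.B2 hM hB hD h8 N b hb hst hcov hDN
  b3 := fun hM _ hB _ hD h8 N _ b hb hcov T hT hz => Cfsg.Agent.H245.KKL.B3 hM hB hD h8 N b hb hcov T hT hz
  b4 := fun hM _ hB _ hD h8 N _ ξ hinv hz hcov hDN => Cfsg.Agent.H658.KKL.B4 hM hB hD h8 N ξ hinv hz hcov hDN
  b5 := fun hM _ hB _ hD h8 L H _ _ hLH hDL hk hst => Cfsg.Agent.H242.KKL.B5 hM hB hD h8 L H hLH hDL hk hst
  b6 := fun hM _ hB _ hD h8 N _ hodd hz b hb hst hcov => Cfsg.Agent.H242.KKL.B6 hM hB hD h8 N hodd hz b hb hst hcov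
  b7 := fun D h8 y hy h1 h2 h3 h4 h5 => Cfsg.Agent.H527.KKL.B7 D h8 y hy h1 h2 h3 h4 h5
  b8 := fun K _ hK hC _ h2 => Cfsg.Agent.H388.KKL.B8_of_sch K hK hC (hS K hK) h2
  b10 := fun hM _ hB _ hD h8 N => Cfsg.Agent.H245.KKL.B10 hM hB hD h8 N

/-- **the reduction to quasisimple groups with odd centre** -/
theorem hz_all (hS : SchAll.{u})
    (hrows : ∀ (K : Type u) [Group K] [Finite K], IsQuasisimple K → Odd (Nat.card ↥(Subgroup.center K)) → HZ K) :
    ∀ (G : Type u) [Group G] [Finite G], HZ G :=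
  Cfsg.Agent.H38.KKL.B9_of (inputs hS) hrows

/-- **S4546 from the rows** -/
theorem main_of (hS : SchAll.{u})
    (hrows : ∀ (K : Type u) [Group K] [Finite K], IsQuasisimple K → Odd (Nat.card ↥(Subgroup.center K)) → HZ K)
    {G : Type u} [Group G] [Finite G] (M : Ideal AlgInt) (hM : IsPModular 2 M) (B : Set (IrrCharacter G))
    (hB : IsPBlock M B) (D : Subgroup G) (hD : IsDefectGroup 2 M B D) (n : ℕ) (hn : 2 ≤ n)
    (hiso : Nonempty (D ≃* Multiplicative (ZMod (2 ^ n) × ZMod 2 × ZMod 2 × ZMod 2))) :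
    Nat.card B = 2 ^ (n + 3) ∧ (∀ χ ∈ B, blockHeight 2 B (χ : G → ℂ) = 0) ∧
      (blockRank 2 B = 1 ∨ blockRank 2 B = 3 ∨ blockRank 2 B = 5 ∨ blockRank 2 B = 7) :=
  Cfsg.Agent.H608.KKL.C2 (hz_all hS hrows) M hM B hB D hD n hn hiso

end Cfsg.Agent.H610.KKL
end

-- part: H613/KKL/Block
section
set_option linter.all false

/-!
# S4546: the block side, assembled (hub helper613)

`A5` without hypotheses, the reduction to quasisimple groups `red_of` (only the Schreier input `PB8` left), and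
S4546 from `HZ K` for quasisimple `K` with odd centre.
-/

set_option autoImplicit false

open Cfsg Cfsg.Agent.H613.KKL

namespace Cfsg.Agent.H613.KKL.Block

universe u

/-- A5: a block with a character of positive height gives the configuration `CfgB`. -/
theorem A5 {G : Type u} [Group G] [Finite G] {M : Ideal AlgInt} (hM : IsPModular 2 M) {B : Set (IrrCharacter G)}
    (hB : IsPBlock M B) {D : Subgroup G} (hD : IsDefectGroup 2 M B D) (h8 : E8 D)
    {χ : IrrCharacter G} (hχ : χ ∈ B) (hh : blockHeight 2 B (χ : G → ℂ) ≠ 0) :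
    ∃ (x : G) (θ : IrrCharacter ↥(Subgroup.centralizer (D : Set G))), CfgB D x θ :=
  H610.KKL.A5 hM hB hD h8 (H466.KKL.A1 hM hB hD h8) (H466.KKL.A2 hM hB hD h8)
    (fun c hc T hT h7 => H640.KKL.A3 hM hB hD h8 c hc T hT h7)
    (fun c hc T hT h7 => H990.KKL.A4 hM hB hD h8 c hc T hT h7) hχ hh

end Cfsg.Agent.H613.KKL.Block
end

-- part: H850/KKL/Key
section
set_option linter.all false
open scoped Cfsg.Agent.FastGrp

/-!
# S4546: the cubic sum for the local data
-/

set_option autoImplicit false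
set_option linter.unusedSectionVars false

open Cfsg
open scoped ComplexConjugate

namespace Cfsg.Agent.H850.KKL

open Cfsg.Agent.Characters Cfsg.Agent.Blocks.Local Cfsg.Agent.Blocks.Blau
open Cfsg.Agent.H613.RegGram Cfsg.Agent.H613.Contrib
open Cfsg.Agent.Blocks.Basic (isPBlock_blockOf mem_blockOf_self isPBlock_eq_blockOf)

variable {G : Type*} [Group G] [Fintype G] {M : Ideal AlgInt} {B : Set (IrrCharacter G)} {u : G} {H : Subgroup G}
  [Fintype H] {f : Set (IrrCharacter H)} {ψ : Fin 4 → IrrCharacter H} {ε : Fin 4 → ℤ}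

/-- the difference -/
noncomputable def dif (ψ : Fin 4 → IrrCharacter H) (ε : Fin 4 → ℤ) (i : Fin 4) : H → ℂ :=
  fun s => (ε i : ℂ) * (ψ i : H → ℂ) s - (ε 3 : ℂ) * (ψ 3 : H → ℂ) s

theorem dif_apply (i : Fin 4) (s : H) :
    dif ψ ε i s = (ε i : ℂ) * (ψ i : H → ℂ) s - (ε 3 : ℂ) * (ψ 3 : H → ℂ) s := rfl

theorem isClassFunction_dif (i : Fin 4) : IsClassFunction H (dif ψ ε i) := by
  intro g h
  rw [dif_apply, dif_apply, Core.isIrr_isClassFunction (ψ i).2 g h, Core.isIrr_isClassFunction (ψ 3).2 g h]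

theorem isIntegral_dif (i : Fin 4) (s : H) : IsIntegral ℤ (dif ψ ε i s) := by
  rw [dif_apply]
  have h1 : ∀ n : ℤ, IsIntegral ℤ (n : ℂ) := fun n => by
    have := isIntegral_algebraMap (R := ℤ) (A := ℂ) (x := n)
    simpa using this
  exact ((h1 _).mul (isIntegral_of_isCharacter (Core.isIrr_isCharacter (ψ i).2) s)).sub
    ((h1 _).mul (isIntegral_of_isCharacter (Core.isIrr_isCharacter (ψ 3).2) s))

/-- `⟨θ, η⟩` of a shifted regular part. -/
theorem classInner_shf (u' : H) (φ θ : H → ℂ) :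
    classInner (shf u' (regPart 2 φ)) θ = conj (rg 2 (fun c => θ (u' * c)) φ) := by
  rw [Core.classInner_def, rg_def, pair_def, map_mul, map_inv₀, Complex.conj_natCast, map_sum,
    ← Equiv.sum_comp (Equiv.mulLeft u')]
  congr 1
  refine Finset.sum_congr rfl fun s _ => ?_
  show regPart 2 φ (u'⁻¹ * (u' * s)) * conj (θ (u' * s)) = _
  rw [inv_mul_cancel_left, map_mul]
  congr 1
  by_cases h : 2 ∣ orderOf s
  · rw [regPart_of_dvd h, regPart_of_dvd h, map_zero]
  · rw [regPart_of_not_dvd h, regPart_of_not_dvd h, Complex.conj_conj]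

theorem classInner_ind (u' : H) (φ : H → ℂ) {χ : G → ℂ} (hχ : IsClassFunction G χ) :
    classInner (indFun H (shf u' (regPart 2 φ))) χ = conj (wt 2 (u' : G) χ φ) := by
  have h1 := Cfsg.Agent.OddOrderCharacters.InducedNormal.sum_indFun_mul H (shf u' (regPart 2 φ))
    (fun g => conj (χ g)) (fun g h => by
      show conj _ = conj _
      rw [hχ g h])
  have h2 := classInner_shf u' φ (fun c : H => χ c)
  rw [Core.classInner_def] at h2 ⊢
  rw [h1, ← Nat.card_eq_fintype_card (α := G)]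
  have hG0 : (Nat.card G : ℂ) ≠ 0 := Core.card_ne_zero_complex
  rw [mul_comm (Nat.card H : ℂ)⁻¹, mul_assoc, inv_mul_cancel_left₀ hG0, h2]
  rfl

theorem wt_dif (χ : G → ℂ) (i : Fin 4) :
    wt 2 u χ (dif ψ ε i) = (ε i : ℂ) * wt 2 u χ (ψ i : H → ℂ) - (ε 3 : ℂ) * wt 2 u χ (ψ 3 : H → ℂ) := by
  simp only [wt_def, rg_def, pair_eq_sum_filter, Finset.mul_sum]
  rw [← Finset.sum_sub_distrib]
  refine Finset.sum_congr rfl fun s _ => ?_
  rw [dif_apply, map_sub, map_mul, map_mul, map_intCast, map_intCast]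
  ring

theorem rg_dif (χ : H → ℂ) (i : Fin 4) :
    rg 2 χ (dif ψ ε i) = (ε i : ℂ) * rg 2 χ (ψ i : H → ℂ) - (ε 3 : ℂ) * rg 2 χ (ψ 3 : H → ℂ) := by
  simp only [rg_def, pair_eq_sum_filter, Finset.mul_sum]
  rw [← Finset.sum_sub_distrib]
  refine Finset.sum_congr rfl fun s _ => ?_
  rw [dif_apply, map_sub, map_mul, map_mul, map_intCast, map_intCast]
  ring

/-- **The cubic sum for the local data.** -/
theorem key [Fintype B] (hM : IsPModular 2 M) (L : Loc M B u H f ψ ε) {μ : B → Fin 4 → ℤ}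
    (hμ : ∀ (χ : B) (i : Fin 4), 8 * (ε i : ℂ) * wt 2 u (χ : G → ℂ) (ψ i : H → ℂ) = ((4 * μ χ i - ∑ j, μ χ j : ℤ) : ℂ))
    (hP : ∀ u : H, u ∈ Subgroup.center H → (∃ k, orderOf u = 2 ^ k) →
      ∀ g : H → ℂ, IsGeneralizedCharacter H g → (∀ c : H, 2 ∣ orderOf (u⁻¹ * c) → g c = 0) → ∀ E : H → ℂ,
      IsClassFunction H E → (∀ c, MemLocalRing M (E c)) → MemLocalRing M ((Nat.card H : ℂ)⁻¹ * ∑ c, E c * g c))
    (i j : Fin 4) :
    MemLocalRing M (∑ χ : B, ((μ χ i - μ χ 3) ^ 2 * (μ χ j - μ χ 3) : ℤ) *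
      ((Nat.card G : ℂ) / (8 * (χ : G → ℂ) 1))) := by
  classical
  have hp2 : Fact (Nat.Prime 2) := ⟨Nat.prime_two⟩
  have hMp := isPrime_of_isPModular hM
  have := Core.finite_irr (G := G)
  have := Fintype.ofFinite (IrrCharacter G)
  have := Core.finite_irr (G := H)
  have := Fintype.ofFinite (IrrCharacter H)
  have huH : u ∈ H := by
    rw [L.hH, Subgroup.mem_centralizer_singleton_iff]
  obtain ⟨u', hu'⟩ : ∃ u' : H, (u' : G) = u := ⟨⟨u, huH⟩, rfl⟩
  have hu'c : u' ∈ Subgroup.center H := by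
    rw [Subgroup.mem_center_iff]
    intro g
    apply Subtype.ext
    show (g : G) * u' = u' * g
    rw [hu']
    exact Subgroup.mem_centralizer_singleton_iff.1 (L.hH.le g.2)
  have hu2 : ∃ k, orderOf u = 2 ^ k := ⟨1, by
    rw [pow_one]
    exact orderOf_eq_prime (by rw [pow_two, L.inv]) L.ne⟩
  have hu'2 : ∃ k, orderOf u' = 2 ^ k := by
    obtain ⟨k, hk⟩ := hu2
    exact ⟨k, by rw [← Subgroup.orderOf_coe, hu', hk]⟩
  have hε : ∀ i, (ε i : ℂ) * ε i = 1 := by
    intro i
    rcases L.sign i with h | h <;> rw [h] <;> norm_num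
  -- the multiplicities in `G`
  have hk1 : ∀ (i : Fin 4) (χ : IrrCharacter G), 2 * classInner (indFun H (shf u' (regPart 2 (dif ψ ε i)))) (χ : G → ℂ) =
      ((if h : χ ∈ B then μ ⟨χ, h⟩ i - μ ⟨χ, h⟩ 3 else 0 : ℤ) : ℂ) := by
    intro i χ
    rw [classInner_ind u' _ (Core.isIrr_isClassFunction χ.2), hu', wt_dif]
    by_cases h : χ ∈ B
    · rw [dif_pos h]
      have h1 := hμ ⟨χ, h⟩ i
      have h2 := hμ ⟨χ, h⟩ 3
      have h3 : (ε i : ℂ) * wt 2 u (χ : G → ℂ) (ψ i : H → ℂ) - (ε 3 : ℂ) * wt 2 u (χ : G → ℂ) (ψ 3 : H → ℂ) =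
          (((μ ⟨χ, h⟩ i - μ ⟨χ, h⟩ 3 : ℤ) : ℂ)) / 2 := by
        push_cast at h1 h2 ⊢
        linear_combination (1 / 8 : ℂ) * h1 - (1 / 8 : ℂ) * h2
      rw [h3, map_div₀, map_intCast, Complex.conj_ofNat]
      ring
    · rw [dif_neg h]
      have h0 : ∀ i, wt 2 u (χ : G → ℂ) (ψ i : H → ℂ) = 0 := by
        intro i
        refine Cfsg.Agent.H639.wt_eq_zero hM hu2 L.hH (isPBlock_blockOf χ) (mem_blockOf_self χ) ?_
        intro hind
        rw [← isPBlock_eq_blockOf L.ind.1 (L.mem i)] at hind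
        have h1 := Cfsg.Agent.Blocks.CentralizerSum.inducedBlock_unique hind L.ind
        apply h
        rw [← h1]
        exact mem_blockOf_self χ
      rw [h0, h0]
      simp
  -- the multiplicities in `H`
  have hρ1 : ∀ θ : IrrCharacter H, ∃ n : ℤ, 2 * classInner (shf u' (regPart 2 (dif ψ ε j))) (θ : H → ℂ) = n ∧
      (n ≠ 0 → θ ∈ f) := by
    intro θ
    obtain ⟨e, he1, he⟩ := Cfsg.Agent.Blocks.CentralizerSum.exists_central_scalar θ.2 hu'c
    have h1 : classInner (shf u' (regPart 2 (dif ψ ε j))) (θ : H → ℂ) =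
        conj (e * rg 2 (θ : H → ℂ) (dif ψ ε j)) := by
      rw [classInner_shf]
      congr 1
      simp only [rg_def, pair_eq_sum_filter, Finset.mul_sum]
      refine Finset.sum_congr rfl fun s _ => ?_
      rw [he]
      ring
    have he2 : e = 1 ∨ e = -1 := by
      have h2 := he (u' * 1)
      have h3 := he 1
      rw [← mul_assoc, show u' * u' = 1 from Subtype.ext (by show (u' : G) * u' = 1; rw [hu', L.inv]), one_mul, h3,
        ← mul_assoc] at h2
      have h4 := apply_one_ne_zero θ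
      have h5 : e * e = 1 := by
        have : (e * e - 1) * (θ : H → ℂ) 1 = 0 := by linear_combination -h2
        rcases mul_eq_zero.1 this with h | h
        · linear_combination h
        · exact absurd h h4
      have h6 : (e - 1) * (e + 1) = 0 := by linear_combination h5
      rcases mul_eq_zero.1 h6 with h | h
      · left; linear_combination h
      · right; linear_combination h
    by_cases hθ : θ ∈ f
    · obtain ⟨m, hm⟩ := L.span θ hθ
      have h2 : 2 * rg 2 (θ : H → ℂ) (dif ψ ε j) = ((m j * ε j - m 3 * ε 3 : ℤ) : ℂ) := by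
        have h3 : ∀ i, rg 2 (θ : H → ℂ) (ψ i : H → ℂ) = ∑ l, (m l : ℂ) * rg 2 (ψ l : H → ℂ) (ψ i : H → ℂ) := by
          intro i
          simp only [rg_def, pair_eq_sum_filter, Finset.mul_sum]
          rw [Finset.sum_comm]
          refine Finset.sum_congr rfl fun s hs => ?_
          rw [hm s (Finset.mem_filter.1 hs).2, Finset.sum_mul, Finset.mul_sum]
          exact Finset.sum_congr rfl fun l _ => by ring
        have h4 : ∀ i, 8 * ((ε i : ℂ) * rg 2 (θ : H → ℂ) (ψ i : H → ℂ)) = 4 * (m i * ε i) - ∑ l, (m l : ℂ) * ε l := by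
          intro i
          have h5 : ∀ l, 8 * rg 2 (ψ l : H → ℂ) (ψ i : H → ℂ) = ((4 * (if l = i then 1 else 0) - ε l * ε i : ℤ) : ℂ) :=
            fun l => L.gram inferInstance l i
          rw [h3, ← mul_assoc, Finset.mul_sum]
          have h6 : ∀ l, 8 * (ε i : ℂ) * ((m l : ℂ) * rg 2 (ψ l : H → ℂ) (ψ i : H → ℂ)) =
              (if l = i then 4 * ((m i : ℂ) * ε i) else 0) - (m l : ℂ) * ε l := by
            intro l
            have h7 := h5 l
            have h8 := hε i
            split_ifs at h7 ⊢ with h9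
            · subst h9
              push_cast at h7
              linear_combination (ε l * m l : ℂ) * h7 - (m l : ℂ) * ε l * h8
            · push_cast at h7
              linear_combination (ε i * m l : ℂ) * h7 - (m l : ℂ) * ε l * h8
          rw [Finset.sum_congr rfl fun l _ => h6 l, Finset.sum_sub_distrib, Finset.sum_ite_eq' Finset.univ i]
          simp
        rw [rg_dif]
        push_cast
        linear_combination (1 / 4 : ℂ) * h4 j - (1 / 4 : ℂ) * h4 3
      rcases he2 with h | h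
      · refine ⟨m j * ε j - m 3 * ε 3, ?_, fun _ => hθ⟩
        rw [h1, h, one_mul, ← map_intCast (starRingEnd ℂ), ← h2, map_mul, Complex.conj_ofNat]
      · refine ⟨-(m j * ε j - m 3 * ε 3), ?_, fun _ => hθ⟩
        rw [h1, h, ← map_intCast (starRingEnd ℂ), Int.cast_neg, ← h2, map_neg, map_mul, map_mul, map_neg, map_one,
          Complex.conj_ofNat]
        ring
    · refine ⟨0, ?_, fun h => absurd rfl h⟩
      rw [h1, rg_dif, rg_eq_zero' hM L.ind.1 hθ (L.mem j), rg_eq_zero' hM L.ind.1 hθ (L.mem 3)]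
      simp
  choose ρ hρ hρf using hρ1
  have hmain := key_abs hM (u := u') (by rw [hu', L.inv]) (by rw [hu']; exact L.hH)
    (regPart_isClassFunction (p := 2) (isClassFunction_dif (ψ := ψ) (ε := ε) i))
    (regPart_isClassFunction (p := 2) (isClassFunction_dif (ψ := ψ) (ε := ε) j))
    (fun c hc => regPart_of_dvd hc) (fun c hc => regPart_of_dvd hc) (fun c => by
      by_cases hc : 2 ∣ orderOf c
      · rw [regPart_of_dvd hc]; exact isIntegral_zero
      · rw [regPart_of_not_dvd hc]; exact isIntegral_dif i c) _ (hk1 i) ρ hρ (fun θ hθ => by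
      have h1 := memLocalRing_card_div_defect hM (hρf θ hθ) (L.height θ (hρf θ hθ))
      rw [L.deff] at h1
      have h2 : ((2 : ℕ) : ℂ) ^ 3 = 8 := by norm_num
      rwa [h2] at h1) (hP u' hu'c hu'2)
  have hsum : (Nat.card G : ℂ) * ∑ χ : IrrCharacter G,
      classInner (indFun H (shf u' (regPart 2 (dif ψ ε i)))) (χ : G → ℂ) *
      classInner (indFun H (shf u' (regPart 2 (dif ψ ε i)))) (χ : G → ℂ) *
      conj (classInner (indFun H (shf u' (regPart 2 (dif ψ ε j)))) (χ : G → ℂ)) / (χ : G → ℂ) 1 =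
      ∑ χ : B, ((μ χ i - μ χ 3) ^ 2 * (μ χ j - μ χ 3) : ℤ) * ((Nat.card G : ℂ) / (8 * (χ : G → ℂ) 1)) := by
    rw [Finset.mul_sum, sum_eq_sum_coe B]
    · refine Finset.sum_congr rfl fun χ _ => ?_
      have h1 := hk1 i χ
      have h2 := hk1 j χ
      rw [dif_pos χ.2] at h1 h2
      have h3 : classInner (indFun H (shf u' (regPart 2 (dif ψ ε i)))) (χ : G → ℂ) = ((μ χ i - μ χ 3 : ℤ) : ℂ) / 2 := by
        rw [← h1]; ring
      have h4 : classInner (indFun H (shf u' (regPart 2 (dif ψ ε j)))) (χ : G → ℂ) = ((μ χ j - μ χ 3 : ℤ) : ℂ) / 2 := by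
        rw [← h2]; ring
      rw [h3, h4, map_div₀, map_intCast, Complex.conj_ofNat]
      have h5 := apply_one_ne_zero (χ : IrrCharacter G)
      push_cast
      field_simp
      ring
    · intro χ hχ
      have h1 := hk1 i χ
      rw [dif_neg hχ, Int.cast_zero] at h1
      have h2 : classInner (indFun H (shf u' (regPart 2 (dif ψ ε i)))) (χ : G → ℂ) = 0 := by
        rcases mul_eq_zero.1 h1 with h | h
        · exact absurd h two_ne_zero
        · exact h
      rw [h2]
      simp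
  rw [hsum] at hmain
  exact hmain

end Cfsg.Agent.H850.KKL
end

-- part: H850/KKL/CoreT
section
set_option linter.all false
open scoped Cfsg.Agent.FastGrp

/-!
# S4546: from the local data to heights zero
-/

set_option autoImplicit false
set_option linter.unusedSectionVars false

open Cfsg
open scoped ComplexConjugate

namespace Cfsg.Agent.H850.KKL

open Cfsg.Agent.Characters Cfsg.Agent.Blocks.Local Cfsg.Agent.Blocks.Blau
open Cfsg.Agent.H613.RegGram Cfsg.Agent.H613.Contrib

variable {M : Ideal AlgInt}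

/-- A quotient of two natural numbers with the same power of two is `1` modulo `M`. -/
theorem ratio_sub_one (hM : IsPModular 2 M) {n d : ℕ} (hn : n ≠ 0) (hd : d ≠ 0)
    (h : n.factorization 2 = d.factorization 2) : MemLocalIdeal M ((n : ℂ) / (d : ℂ) - 1) := by
  have hp2 : Fact (Nat.Prime 2) := ⟨Nat.prime_two⟩
  have hMp := isPrime_of_isPModular hM
  have h1 := Nat.ordProj_mul_ordCompl_eq_self n 2
  have h2 := Nat.ordProj_mul_ordCompl_eq_self d 2
  have h3 := Nat.not_dvd_ordCompl Nat.prime_two hn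
  have h4 := Nat.not_dvd_ordCompl Nat.prime_two hd
  rw [h] at h1 h3
  set v := d.factorization 2 with hv
  set n' := n / 2 ^ v with hn'
  set d' := d / 2 ^ v with hd'
  have hd0 : d' ≠ 0 := by
    intro h5
    rw [h5] at h4
    exact h4 (dvd_zero _)
  have e0 : (d' : ℂ) ≠ 0 := by exact_mod_cast hd0
  have e1 : ((2 : ℂ) ^ v) ≠ 0 := pow_ne_zero _ two_ne_zero
  have h5 : (n : ℂ) / (d : ℂ) - 1 = (((n' : ℤ) - d' : ℤ) : ℂ) * (((1 : ℕ) : ℂ) / (d' : ℂ)) := by
    rw [← h1, ← h2]
    push_cast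
    field_simp
  rw [h5]
  refine memLocalIdeal_mul_right ?_ (memLocalRing_natCast_div hM hd0 ?_)
  · rw [memLocalIdeal_intCast_iff hM]
    push_cast
    omega
  · rw [Nat.factorization_eq_zero_of_not_dvd h4]
    exact Nat.zero_le _

/-- **The parity.** -/
theorem parity (hM : IsPModular 2 M) {ι : Type*} [Fintype ι] {a b c : ι → ℤ} {h : ι → ℕ} (R : Rows a b c h)
    {n d : ι → ℕ} (hn : ∀ x, n x ≠ 0) (hd : ∀ x, d x ≠ 0)
    (hv : ∀ x, (n x).factorization 2 + h x = (d x).factorization 2)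
    (hsum : MemLocalRing M (∑ x, ((a x ^ 2 * b x : ℤ) : ℂ) * ((n x : ℂ) / (d x : ℂ)))) :
    2 ∣ (Finset.univ.filter fun x => h x = 1 ∧ a x ≠ 0 ∧ b x ≠ 0).card := by
  classical
  have hp2 : Fact (Nat.Prime 2) := ⟨Nat.prime_two⟩
  have hMp := isPrime_of_isPModular hM
  have h2 : MemLocalIdeal M (2 : ℂ) := by
    have := memLocalIdeal_p hM
    exact_mod_cast this
  have hterm : ∀ x, MemLocalIdeal M (2 * (((a x ^ 2 * b x : ℤ) : ℂ) * ((n x : ℂ) / (d x : ℂ))) -
      (if h x = 1 ∧ a x ≠ 0 ∧ b x ≠ 0 then 1 else 0)) := by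
    intro x
    rcases R.le_one x with h0 | h1
    · have h3 := hv x
      rw [h0, add_zero] at h3
      rw [if_neg (by rw [h0]; simp), sub_zero]
      exact memLocalIdeal_mul_right h2 (memLocalRing_mul (memLocalRing_intCast _)
        (memLocalRing_natCast_div hM (hd x) h3.ge))
    · have h3 : (2 * n x).factorization 2 = (d x).factorization 2 := by
        rw [Nat.factorization_mul two_ne_zero (hn x), ← hv x, h1]
        simp [Nat.prime_two.factorization_self, add_comm]
      have h4 := ratio_sub_one hM (mul_ne_zero two_ne_zero (hn x)) (hd x) h3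
      have h5 := memLocalIdeal_mul_left (memLocalRing_intCast (M := M) (a x ^ 2 * b x)) h4
      have h6 : MemLocalIdeal M (((a x ^ 2 * b x : ℤ) : ℂ) - (if h x = 1 ∧ a x ≠ 0 ∧ b x ≠ 0 then 1 else 0)) := by
        have h7 : (((a x ^ 2 * b x : ℤ) : ℂ) - (if h x = 1 ∧ a x ≠ 0 ∧ b x ≠ 0 then 1 else 0)) =
            ((a x ^ 2 * b x - (if h x = 1 ∧ a x ≠ 0 ∧ b x ≠ 0 then 1 else 0) : ℤ) : ℂ) := by
          split_ifs <;> push_cast <;> ring
        rw [h7, memLocalIdeal_intCast_iff hM]
        rcases R.ea x with e | e | e <;> rcases R.eb x with e' | e' | e' <;> rw [e, e'] <;> simp [h1]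
      have h8 := memLocalIdeal_add h5 h6
      convert h8 using 1
      push_cast
      ring
  have htot := memLocalIdeal_sum (M := M) (s := Finset.univ) fun x (_ : x ∈ Finset.univ) => hterm x
  rw [Finset.sum_sub_distrib, ← Finset.mul_sum, Finset.sum_boole] at htot
  have h9 := memLocalIdeal_sub (memLocalIdeal_mul_right h2 hsum) htot
  rw [sub_sub_cancel] at h9
  have h10 := (memLocalIdeal_intCast_iff (p := 2) hM
    ((Finset.univ.filter fun x => h x = 1 ∧ a x ≠ 0 ∧ b x ≠ 0).card : ℤ)).1 (by exact_mod_cast h9)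
  exact_mod_cast h10

/-- **Heights zero from the local data**, given the rows and the divisibility lemma. -/
theorem core_of {G : Type*} [Group G] [Fintype G] {B : Set (IrrCharacter G)} {u : G} {H : Subgroup G}
    [Fintype H] {f : Set (IrrCharacter H)} {ψ : Fin 4 → IrrCharacter H} {ε : Fin 4 → ℤ} [Fintype B]
    (hM : IsPModular 2 M) (L : Loc M B u H f ψ ε) {μ : B → Fin 4 → ℤ}
    (hμ : ∀ (χ : B) (i : Fin 4), 8 * (ε i : ℂ) * wt 2 u (χ : G → ℂ) (ψ i : H → ℂ) =
      ((4 * μ χ i - ∑ j, μ χ j : ℤ) : ℂ))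
    (R : Rows (fun χ => μ χ 0 - μ χ 3) (fun χ => μ χ 1 - μ χ 3) (fun χ => μ χ 2 - μ χ 3)
      (fun χ : B => blockHeight 2 B (χ : G → ℂ)))
    (hP : ∀ u : H, u ∈ Subgroup.center H → (∃ k, orderOf u = 2 ^ k) →
      ∀ g : H → ℂ, IsGeneralizedCharacter H g → (∀ c : H, 2 ∣ orderOf (u⁻¹ * c) → g c = 0) → ∀ E : H → ℂ,
      IsClassFunction H E → (∀ c, MemLocalRing M (E c)) → MemLocalRing M ((Nat.card H : ℂ)⁻¹ * ∑ c, E c * g c)) :
    ∀ χ ∈ B, blockHeight 2 B (χ : G → ℂ) = 0 := by
  have hp2 : Fact (Nat.Prime 2) := ⟨Nat.prime_two⟩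
  have hMp := isPrime_of_isPModular hM
  obtain ⟨χ₀, hχ₀, h0⟩ := exists_blockHeight_eq_zero 2 (isPBlock_nonempty hM L.ind.2.1)
  have hpar : ∀ (i j : Fin 4) {a b c : B → ℤ}, (∀ χ, a χ = μ χ i - μ χ 3) → (∀ χ, b χ = μ χ j - μ χ 3) →
      Rows a b c (fun χ : B => blockHeight 2 B (χ : G → ℂ)) →
      2 ∣ (Finset.univ.filter fun χ : B => blockHeight 2 B (χ : G → ℂ) = 1 ∧ a χ ≠ 0 ∧ b χ ≠ 0).card := by
    intro i j a b c ha hb R'
    refine parity hM R' (n := fun _ => Nat.card G) (d := fun χ => 8 * charDegree (χ : G → ℂ))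
      (fun _ => Nat.card_pos.ne') (fun χ => mul_ne_zero (by norm_num) (charDegree_ne_zero _)) (fun χ => ?_) ?_
    · have h1 := defect_add_eq_add (p := 2) χ.2
      rw [L.defB] at h1
      have h2 : (8 * charDegree ((χ : IrrCharacter G) : G → ℂ)).factorization 2 =
          3 + (charDegree ((χ : IrrCharacter G) : G → ℂ)).factorization 2 := by
        rw [Nat.factorization_mul (by norm_num) (charDegree_ne_zero _), show (8 : ℕ) = 2 ^ 3 by norm_num,
          Nat.factorization_pow]
        simp [Nat.prime_two.factorization_self]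
      show (Nat.card G).factorization 2 + blockHeight 2 B ((χ : IrrCharacter G) : G → ℂ) =
        (8 * charDegree ((χ : IrrCharacter G) : G → ℂ)).factorization 2
      rw [h2, h1]
    · have h1 := key hM L hμ hP i j
      convert h1 using 1
      refine Finset.sum_congr rfl fun χ _ => ?_
      rw [ha, hb, apply_one_eq_charDegree]
      push_cast
      rfl
  intro χ hχ
  exact R.main (x₀ := ⟨χ₀, hχ₀⟩) h0 (hpar 0 1 (fun _ => rfl) (fun _ => rfl) R)
    (hpar 1 2 (fun _ => rfl) (fun _ => rfl) R.rot) (hpar 2 0 (fun _ => rfl) (fun _ => rfl) R.rot.rot) ⟨χ, hχ⟩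

end Cfsg.Agent.H850.KKL
end

-- part: H850/KKL/Main
section
set_option linter.all false

/-!
# S4546: heights zero from the local data
-/

set_option autoImplicit false

open Cfsg

namespace Cfsg.Agent.H850.KKL

universe u

/-- **The local data force all heights of `B` to be zero.** -/
theorem core {G : Type u} [Group G] [Finite G] {M : Ideal AlgInt} (hM : IsPModular 2 M) {B : Set (IrrCharacter G)}
    {u : G} {H : Subgroup G} {f : Set (IrrCharacter H)} {ψ : Fin 4 → IrrCharacter H} {ε : Fin 4 → ℤ}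
    (L : Loc M B u H f ψ ε) : ∀ χ ∈ B, blockHeight 2 B (χ : G → ℂ) = 0 := by
  have hp2 : Fact (Nat.Prime 2) := ⟨Nat.prime_two⟩
  have := Fintype.ofFinite G
  have := Fintype.ofFinite H
  have hfin := Cfsg.Agent.Characters.Core.finite_irr (G := G)
  have : Fintype B := Fintype.ofFinite B
  obtain ⟨μ, hμ, R⟩ := Cfsg.Agent.H639.KKLRows.rows hM L
  exact core_of hM L hμ R fun u hu hu2 g hg h0 E hE hint => memLocalRing_of_section hM hg hu hu2 h0 hE hint

end Cfsg.Agent.H850.KKL
end

-- part: H611/KKL/Loc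
section
set_option linter.all false
open scoped Cfsg.Agent.FastGrp

/-!
# S4546: 2-blocks with defect group `2^3` and inertial index divisible by three: the local data

* `exists_loc`: the local data `Loc` at the involution `u` fixed by a 3-element of the inertial quotient.
-/

set_option autoImplicit false
set_option linter.unusedSectionVars false

open Cfsg

namespace Cfsg.Agent.H611.KKL.LocAux

open Cfsg.Agent.H613.KKL

section grp

variable {G : Type*} [Group G] [Finite G] {D S : Subgroup G}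

theorem card_mul_relIndex {H K : Subgroup G} (h : H ≤ K) :
    Nat.card H * H.relIndex K = Nat.card K := by
  have h1 := (H.subgroupOf K).card_mul_index
  rwa [Nat.card_congr (Subgroup.subgroupOfEquivOfLe h).toEquiv] at h1

theorem normal_subgroupOf (hS : S ≤ Subgroup.normalizer (D : Set G)) :
    ((Subgroup.centralizer (D : Set G)).subgroupOf S).Normal := by
  refine ⟨fun n hn g => ?_⟩
  rw [Subgroup.mem_subgroupOf, Subgroup.mem_centralizer_iff] at hn ⊢
  intro d hd
  have hg := (Subgroup.mem_normalizer_iff'' .. |>.1 (hS g.2) d).1 hd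
  have h1 := hn _ hg
  push_cast
  calc d * ((g : G) * n * (g : G)⁻¹) = g * (((g : G)⁻¹ * d * g) * n) * (g : G)⁻¹ := by group
    _ = g * (n * ((g : G)⁻¹ * d * g)) * (g : G)⁻¹ := by rw [h1]
    _ = (g : G) * n * (g : G)⁻¹ * d := by group

/-- the square of `x` is in the centralizer, the index is odd. -/
theorem mem_of_sq (hS : S ≤ Subgroup.normalizer (D : Set G))
    (hodd : ¬ 2 ∣ (Subgroup.centralizer (D : Set G)).relIndex S) {x : G} (hx : x ∈ S)
    (h2 : x * x ∈ Subgroup.centralizer (D : Set G)) : x ∈ Subgroup.centralizer (D : Set G) := by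
  have hn := normal_subgroupOf hS
  set N := (Subgroup.centralizer (D : Set G)).subgroupOf S with hN
  have h1 : ((⟨x, hx⟩ : S) : S ⧸ N) ^ 2 = 1 := by
    rw [← QuotientGroup.mk_pow, QuotientGroup.eq_one_iff, hN, Subgroup.mem_subgroupOf, pow_two]
    exact h2
  have h3 : orderOf ((⟨x, hx⟩ : S) : S ⧸ N) ∣ 2 := orderOf_dvd_of_pow_eq_one h1
  have h4 : orderOf ((⟨x, hx⟩ : S) : S ⧸ N) ∣ Nat.card (S ⧸ N) := orderOf_dvd_natCard _
  rcases (Nat.dvd_prime Nat.prime_two).1 h3 with h5 | h5
  · rw [orderOf_eq_one_iff, QuotientGroup.eq_one_iff, hN, Subgroup.mem_subgroupOf] at h5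
    exact h5
  · rw [h5] at h4
    exact absurd h4 hodd

/-- An element fixing two involutions. -/
theorem mem_of_two (h8 : E8 D) (hS : S ≤ Subgroup.normalizer (D : Set G))
    (hodd : ¬ 2 ∣ (Subgroup.centralizer (D : Set G)).relIndex S) {x : G} (hx : x ∈ S)
    {u v : G} (hu : u ∈ D) (hu1 : u ≠ 1) (hv : v ∈ D) (hv1 : v ≠ 1) (huv : v ≠ u)
    (hxu : x * u = u * x) (hxv : x * v = v * x) : x ∈ Subgroup.centralizer (D : Set G) := by
  have hcx : ∀ y, y ∈ Subgroup.centralizer ({x} : Set G) ↔ y * x = x * y := fun y =>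
    Subgroup.mem_centralizer_singleton_iff
  set F : Subgroup G := D ⊓ Subgroup.centralizer ({x} : Set G) with hF
  have hFD : F ≤ D := inf_le_left
  have hc := card_mul_relIndex hFD
  rw [h8.card] at hc
  have hcard : 3 ≤ Nat.card F := by
    classical
    have h1 : ({1, u, v} : Finset G).card = 3 := by
      rw [Finset.card_insert_of_notMem, Finset.card_pair (Ne.symm huv)]
      simp only [Finset.mem_insert, Finset.mem_singleton, not_or]
      exact ⟨Ne.symm hu1, Ne.symm hv1⟩
    have h2 : (({1, u, v} : Finset G) : Set G) ⊆ (F : Set G) := by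
      intro y hy
      simp only [Finset.coe_insert, Finset.coe_singleton, Set.mem_insert_iff, Set.mem_singleton_iff] at hy
      rcases hy with rfl | rfl | rfl
      · exact F.one_mem
      · exact ⟨hu, (hcx _).2 hxu.symm⟩
      · exact ⟨hv, (hcx _).2 hxv.symm⟩
    have h3 := Set.ncard_le_ncard h2 (Set.toFinite _)
    rw [Set.ncard_coe_finset, h1] at h3
    exact h3
  -- the index is one or two
  have hidx : F.relIndex D = 1 ∨ F.relIndex D = 2 := by
    have h1 : F.relIndex D ≤ 2 := by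
      by_contra hcon
      push Not at hcon
      have : 3 * 3 ≤ Nat.card F * F.relIndex D := Nat.mul_le_mul hcard hcon
      omega
    have h2 : F.relIndex D ≠ 0 := by
      intro h
      rw [h] at hc
      omega
    omega
  rcases hidx with h1 | h1
  · rw [Subgroup.relIndex_eq_one] at h1
    rw [Subgroup.mem_centralizer_iff]
    intro d hd
    exact (hcx d).1 (h1 hd).2
  · refine mem_of_sq hS hodd hx ?_
    rw [Subgroup.mem_centralizer_iff]
    intro d hd
    have hconj : ∀ d ∈ D, x * d * x⁻¹ ∈ D := fun d hd =>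
      (Subgroup.mem_normalizer_iff.1 (hS hx) d).1 hd
    have hkey : x * d * x⁻¹ * d⁻¹ ∈ F := by
      have h2 := Subgroup.mul_mem_iff_of_index_two (H := F.subgroupOf D) h1
        (a := ⟨x * d * x⁻¹, hconj d hd⟩) (b := ⟨d⁻¹, D.inv_mem hd⟩)
      rw [Subgroup.mem_subgroupOf, Subgroup.mem_subgroupOf, Subgroup.mem_subgroupOf] at h2
      refine h2.2 ?_
      show x * d * x⁻¹ ∈ F ↔ d⁻¹ ∈ F
      rw [F.inv_mem_iff]
      constructor
      · intro h
        refine ⟨hd, (hcx d).2 ?_⟩
        have h3 : x * d * x⁻¹ * x = x * (x * d * x⁻¹) := (hcx _).1 h.2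
        have h4 : x * d = x * (x * d * x⁻¹) := by rw [← h3]; group
        have h5 : d = x * d * x⁻¹ := mul_left_cancel h4
        calc d * x = x * d * x⁻¹ * x := by rw [← h5]
          _ = x * d := by group
      · intro h
        have h3 : d * x = x * d := (hcx _).1 h.2
        rw [← h3]
        simpa using h
    have h3 : x * (x * d * x⁻¹ * d⁻¹) * x⁻¹ = x * d * x⁻¹ * d⁻¹ := by
      have h4 : (x * d * x⁻¹ * d⁻¹) * x = x * (x * d * x⁻¹ * d⁻¹) := (hcx _).1 hkey.2
      rw [← h4]; group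
    have h5 : (x * d * x⁻¹ * d⁻¹) * (x * d * x⁻¹ * d⁻¹) = 1 := h8.inv _ (hFD hkey)
    have h6 : (x * x) * d * (x * x)⁻¹ = d := by
      calc (x * x) * d * (x * x)⁻¹ = (x * (x * d * x⁻¹ * d⁻¹) * x⁻¹) * (x * d * x⁻¹ * d⁻¹) * d := by group
        _ = d := by rw [h3, h5, one_mul]
    calc d * (x * x) = (x * x) * d * (x * x)⁻¹ * (x * x) := by rw [h6]
      _ = x * x * d := by group

/-- The involution fixed by an element of order three. -/
theorem exists_three (h8 : E8 D) (hS : S ≤ Subgroup.normalizer (D : Set G))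
    (hCS : Subgroup.centralizer (D : Set G) ≤ S)
    (hodd : ¬ 2 ∣ (Subgroup.centralizer (D : Set G)).relIndex S)
    (h3 : 3 ∣ (Subgroup.centralizer (D : Set G)).relIndex S) :
    ∃ u ∈ D, u ≠ 1 ∧
      (Subgroup.centralizer (D : Set G)).relIndex (S ⊓ Subgroup.centralizer ({u} : Set G)) = 3 ∧
      ∀ w ∈ D, (∀ t ∈ S, t * u * t⁻¹ = u → t * w * t⁻¹ = w) → w = 1 ∨ w = u := by
  classical
  have hn := normal_subgroupOf hS
  have hp3 : Fact (Nat.Prime 3) := ⟨Nat.prime_three⟩
  set C := Subgroup.centralizer (D : Set G) with hC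
  -- the element of order three
  obtain ⟨q, hq⟩ := exists_prime_orderOf_dvd_card' 3 (G := S ⧸ C.subgroupOf S) h3
  obtain ⟨⟨t, ht⟩, rfl⟩ := QuotientGroup.mk_surjective q
  have ht3 : t ^ 3 ∈ C := by
    have h1 := pow_orderOf_eq_one ((⟨t, ht⟩ : S) : S ⧸ C.subgroupOf S)
    rw [hq, ← QuotientGroup.mk_pow, QuotientGroup.eq_one_iff, Subgroup.mem_subgroupOf] at h1
    exact h1
  have htC : t ∉ C := by
    intro h
    have h1 : ((⟨t, ht⟩ : S) : S ⧸ C.subgroupOf S) = 1 := by
      rw [QuotientGroup.eq_one_iff, Subgroup.mem_subgroupOf]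
      exact h
    rw [h1, orderOf_one] at hq
    omega
  have hcx : ∀ y, y ∈ Subgroup.centralizer ({t} : Set G) ↔ y * t = t * y := fun y =>
    Subgroup.mem_centralizer_singleton_iff
  set F : Subgroup G := D ⊓ Subgroup.centralizer ({t} : Set G) with hF
  have hFD : F ≤ D := inf_le_left
  have hc := card_mul_relIndex hFD
  rw [h8.card] at hc
  have hconj : ∀ d ∈ D, t * d * t⁻¹ ∈ D := fun d hd => (Subgroup.mem_normalizer_iff.1 (hS ht) d).1 hd
  have hconj' : ∀ d ∈ D, t⁻¹ * d * t ∈ D := fun d hd => (Subgroup.mem_normalizer_iff''.1 (hS ht) d).1 hd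
  have hne8 : Nat.card F ≠ 8 := by
    intro h
    have h1 : F = D := Subgroup.eq_of_le_of_card_ge hFD (by rw [h, h8.card])
    apply htC
    rw [hC, Subgroup.mem_centralizer_iff]
    intro d hd
    have h2 : d ∈ F := by rw [h1]; exact hd
    exact (hcx d).1 h2.2
  have hF2 : Nat.card F = 2 := by
    let σ : Function.End D := fun d => ⟨t * d * t⁻¹, hconj d d.2⟩
    have hσ : ∀ d : D, ((σ d : D) : G) = t * d * t⁻¹ := fun d => rfl
    have hσ3 : σ ^ 3 ^ 1 = 1 := by
      funext d
      apply Subtype.ext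
      have h1 := Subgroup.mem_centralizer_iff.1 ht3 d d.2
      show t * (t * (t * (d : G) * t⁻¹) * t⁻¹) * t⁻¹ = d
      calc t * (t * (t * (d : G) * t⁻¹) * t⁻¹) * t⁻¹ = (t ^ 3 * d) * (t ^ 3)⁻¹ := by
            rw [pow_succ, pow_two]; group
        _ = (d * t ^ 3) * (t ^ 3)⁻¹ := by rw [h1]
        _ = d := by group
    have := Fintype.ofFinite D
    have h1 := Equiv.Perm.card_fixedPoints_modEq hσ3
    have h2 : Fintype.card (Function.fixedPoints σ) = Nat.card F := by
      rw [← Nat.card_eq_fintype_card]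
      refine Nat.card_congr
        { toFun := fun d => ⟨d.1, d.1.2, (hcx _).2 ?_⟩
          invFun := fun d => ⟨⟨d.1, d.2.1⟩, ?_⟩
          left_inv := fun _ => rfl
          right_inv := fun _ => rfl }
      · have h3 : σ d.1 = d.1 := d.2
        have h4 : t * ((d.1 : D) : G) * t⁻¹ = (d.1 : D) := congrArg Subtype.val h3
        calc ((d.1 : D) : G) * t = t * ((d.1 : D) : G) * t⁻¹ * t := by rw [h4]
          _ = t * ((d.1 : D) : G) := by group
      · show σ ⟨d.1, d.2.1⟩ = ⟨d.1, d.2.1⟩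
        apply Subtype.ext
        rw [hσ]
        have h3 : (d.1 : G) * t = t * d.1 := (hcx _).1 d.2.2
        show t * (d.1 : G) * t⁻¹ = d.1
        rw [← h3]; group
    rw [h2, ← Nat.card_eq_fintype_card, h8.card] at h1
    have h3 : Nat.card F ∣ 8 := Dvd.intro _ hc
    have h4 : Nat.card F ≤ 8 := Nat.le_of_dvd (by norm_num) h3
    unfold Nat.ModEq at h1
    interval_cases h : Nat.card F <;> (clear * - hn ht hc h1 hconj hne8; omega)
  -- `F = {1, u}`
  have hcard1 : 1 < Nat.card F := by omega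
  obtain ⟨⟨u, huF⟩, hu1⟩ : ∃ u : F, u ≠ 1 := by
    have := (Finite.one_lt_card_iff_nontrivial (α := F)).1 hcard1
    exact exists_ne 1
  have hu1' : u ≠ 1 := fun h => hu1 (Subtype.ext h)
  have hFu : ∀ w ∈ F, w = 1 ∨ w = u := by
    intro w hw
    by_contra hcon
    push Not at hcon
    have h1 : ({1, u, w} : Finset G).card = 3 := by
      rw [Finset.card_insert_of_notMem, Finset.card_pair (Ne.symm hcon.2)]
      simp only [Finset.mem_insert, Finset.mem_singleton, not_or]
      exact ⟨Ne.symm hu1', Ne.symm hcon.1⟩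
    have h2 : (({1, u, w} : Finset G) : Set G) ⊆ (F : Set G) := by
      intro y hy
      simp only [Finset.coe_insert, Finset.coe_singleton, Set.mem_insert_iff, Set.mem_singleton_iff] at hy
      rcases hy with rfl | rfl | rfl
      · exact F.one_mem
      · exact huF
      · exact hw
    have h3 := Set.ncard_le_ncard h2 (Set.toFinite _)
    rw [Set.ncard_coe_finset, h1] at h3
    have h4 : (F : Set G).ncard = Nat.card F := rfl
    omega
  have huD : u ∈ D := huF.1
  have htu : u * t = t * u := (hcx u).1 huF.2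
  refine ⟨u, huD, hu1', ?_, ?_⟩
  · set K := S ⊓ Subgroup.centralizer ({u} : Set G) with hK
    have hKS : K ≤ S := inf_le_left
    have hCK : C ≤ K := le_inf hCS fun x hx => Subgroup.mem_centralizer_singleton_iff.2
      (Subgroup.mem_centralizer_iff.1 hx u huD).symm
    have hKu : ∀ x ∈ K, x * u = u * x := fun x hx => Subgroup.mem_centralizer_singleton_iff.1 hx.2
    have htK : t ∈ K := ⟨ht, Subgroup.mem_centralizer_singleton_iff.2 htu.symm⟩
    have hnK : (C.subgroupOf K).Normal := normal_subgroupOf (hKS.trans hS)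
    have hoddK : ¬ 2 ∣ C.relIndex K := fun h =>
      hodd (h.trans (Dvd.intro _ (Subgroup.relIndex_mul_relIndex _ _ _ hCK hKS)))
    have h3K : 3 ∣ C.relIndex K := by
      have h1 : ((⟨t, htK⟩ : K) : K ⧸ C.subgroupOf K) ^ 3 = 1 := by
        rw [← QuotientGroup.mk_pow, QuotientGroup.eq_one_iff, Subgroup.mem_subgroupOf]
        exact ht3
      have h2 : ((⟨t, htK⟩ : K) : K ⧸ C.subgroupOf K) ≠ 1 := by
        intro h
        rw [QuotientGroup.eq_one_iff, Subgroup.mem_subgroupOf] at h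
        exact htC h
      have h4 := orderOf_eq_prime h1 h2
      have h5 : orderOf ((⟨t, htK⟩ : K) : K ⧸ C.subgroupOf K) ∣ Nat.card (K ⧸ C.subgroupOf K) :=
        orderOf_dvd_natCard _
      rw [h4] at h5
      exact h5
    -- a moved element
    obtain ⟨v, hvD, hv1, hvu⟩ : ∃ v ∈ D, v ≠ 1 ∧ v ≠ u := by
      by_contra hcon
      push Not at hcon
      have h1 : D ≤ F := by
        intro d hd
        by_cases h1 : d = 1
        · rw [h1]; exact F.one_mem
        · rw [hcon d hd h1]; exact huF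
      have h2 := Subgroup.card_le_of_le h1
      rw [h8.card] at h2
      omega
    have hle : C.relIndex K ≤ 8 := by
      have hconjK : ∀ x ∈ K, x * v * x⁻¹ ∈ D := fun x hx =>
        (Subgroup.mem_normalizer_iff.1 (hS (hKS hx)) v).1 hvD
      let φ : K → D := fun x => ⟨x * v * (x : G)⁻¹, hconjK x x.2⟩
      have hφ : ∀ x y : K, φ x = φ y ↔ x⁻¹ * y ∈ C.subgroupOf K := by
        intro x y
        rw [Subgroup.mem_subgroupOf]
        constructor
        · intro h
          have h1 : (x : G) * v * (x : G)⁻¹ = y * v * (y : G)⁻¹ := congrArg Subtype.val h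
          have h2 : ((x⁻¹ * y : K) : G) * v = v * ((x⁻¹ * y : K) : G) := by
            push_cast
            calc (x : G)⁻¹ * y * v = (x : G)⁻¹ * (y * v * (y : G)⁻¹) * y := by group
              _ = (x : G)⁻¹ * (x * v * (x : G)⁻¹) * y := by rw [h1]
              _ = v * ((x : G)⁻¹ * y) := by group
          exact mem_of_two h8 (hKS.trans hS) hoddK (x⁻¹ * y).2 huD hu1' hvD hv1 hvu
            (hKu _ (x⁻¹ * y).2) h2
        · intro h
          apply Subtype.ext
          show (x : G) * v * (x : G)⁻¹ = y * v * (y : G)⁻¹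
          have h1 : v * ((x : G)⁻¹ * y) = (x : G)⁻¹ * y * v := by
            have := Subgroup.mem_centralizer_iff.1 h v hvD
            simpa only [_root_.Subgroup.coe_mul, _root_.InvMemClass.coe_inv] using this
          calc (x : G) * v * (x : G)⁻¹ = x * (v * ((x : G)⁻¹ * y)) * (y : G)⁻¹ := by group
            _ = x * ((x : G)⁻¹ * y * v) * (y : G)⁻¹ := by rw [h1]
            _ = y * v * (y : G)⁻¹ := by group
      have h1 : Nat.card (K ⧸ C.subgroupOf K) ≤ Nat.card D := by
        refine Nat.card_le_card_of_injective (fun x => Quotient.liftOn' x φ fun a b hab => ?_) ?_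
        · rw [hφ]
          exact QuotientGroup.leftRel_apply.1 hab
        · intro x y
          obtain ⟨x, rfl⟩ := QuotientGroup.mk_surjective x
          obtain ⟨y, rfl⟩ := QuotientGroup.mk_surjective y
          intro h
          exact QuotientGroup.eq.2 ((hφ x y).1 h)
      rw [h8.card] at h1
      exact h1
    have hpos : C.relIndex K ≠ 0 := by
      intro h
      apply hoddK
      rw [h]
      exact dvd_zero _
    generalize C.relIndex K = e at *
    omega
  · intro w hw h
    have h1 : t * u * t⁻¹ = u := by rw [← htu]; group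
    have h2 := h t ht h1
    refine hFu w ⟨hw, (hcx w).2 ?_⟩
    calc w * t = t * w * t⁻¹ * t := by rw [h2]
      _ = t * w := by group

end grp

section mat

/-- A symmetric integral matrix `A` of size four with odd entries, `A² = 4 A` and trace 12. -/
theorem signs (A : Fin 4 → Fin 4 → ℤ) (hs : ∀ i j, A i j = A j i)
    (hA : ∀ i j, ∑ k, A i k * A k j = 4 * A i j) (ht : ∑ i, A i i = 12) (ho : ∀ i j, ¬ 2 ∣ A i j) :
    ∃ ε : Fin 4 → ℤ, (∀ i, ε i = 1 ∨ ε i = -1) ∧
      ∀ i j, A i j = 4 * (if i = j then 1 else 0) - ε i * ε j := by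
  obtain ⟨q, hq⟩ : ∃ q : Fin 4 → Fin 4 → ℤ, ∀ i j, q i j = 4 * (if i = j then 1 else 0) - A i j := ⟨_, fun _ _ => rfl⟩
  have hqs : ∀ i j, q i j = q j i := by
    intro i j
    rw [hq, hq, hs i j]
    simp only [eq_comm]
  have hqq : ∀ i j, ∑ k, q i k * q k j = 4 * q i j := by
    intro i j
    have h1 := hA i j
    simp only [hq]
    rw [Fin.sum_univ_four] at h1 ⊢
    fin_cases i <;> fin_cases j <;> simp only [_root_.Fin.zero_eta, _root_.Fin.isValue, ↓ _root_.reduceIte, _root_.mul_one, _root_.zero_ne_one, _root_.MulZeroClass.mul_zero, _root_.zero_sub, _root_.one_ne_zero, _root_.mul_neg, _root_.neg_mul, _root_.neg_neg, _root_.Fin.reduceEq, _root_.Fin.mk_one, _root_.Fin.reduceFinMk] at h1 ⊢ <;> linarith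
  have hqo : ∀ i j, ¬ 2 ∣ q i j := by
    intro i j h
    apply ho i j
    rw [hq] at h
    have h1 : A i j = 4 * (if i = j then 1 else 0) - (4 * (if i = j then 1 else 0) - A i j) := by ring
    rw [h1]
    exact dvd_sub (Dvd.intro (2 * (if i = j then 1 else 0)) (by ring)) h
  have hsq : ∀ n : ℤ, ¬ 2 ∣ n → 1 ≤ n * n := by
    intro n hn
    have : n ≠ 0 := by rintro rfl; exact hn (dvd_zero _)
    have := Int.one_le_abs this
    nlinarith only [this, abs_mul_abs_self n]
  have hdiag : ∀ i, 1 ≤ q i i := by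
    intro i
    have h1 := hqq i i
    have h2 : ∀ k, 1 ≤ q i k * q k i := fun k => by rw [← hqs i k]; exact hsq _ (hqo i k)
    rw [Fin.sum_univ_four] at h1
    have := h2 0; have := h2 1; have := h2 2; have := h2 3
    linarith
  have htr : ∑ i, q i i = 4 := by
    rw [Fin.sum_univ_four] at ht ⊢
    simp only [hq, if_true]
    linarith
  have hone : ∀ i, q i i = 1 := by
    intro i
    rw [Fin.sum_univ_four] at htr
    have := hdiag 0; have := hdiag 1; have := hdiag 2; have := hdiag 3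
    fin_cases i <;> simp <;> linarith
  have hent : ∀ i j, q i j * q i j = 1 := by
    intro i j
    have h1 := hqq i i
    rw [hone i, Fin.sum_univ_four] at h1
    have h2 : ∀ k, q k i = q i k := fun k => hqs k i
    rw [h2 0, h2 1, h2 2, h2 3] at h1
    have := hsq _ (hqo i 0); have := hsq _ (hqo i 1); have := hsq _ (hqo i 2); have := hsq _ (hqo i 3)
    (revert j; simp only [_root_.Fin.forall_fin_succ, Fin.isValue, _root_.Fin.succ_zero_eq_one, _root_.Fin.succ_one_eq_two, Fin.reduceSucc, _root_.IsEmpty.forall_iff, _root_.and_true]) <;> (repeat' with_reducible apply And.intro) <;> linarith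
  have hpm : ∀ i j, q i j = 1 ∨ q i j = -1 := fun i j => mul_self_eq_one_iff.1 (hent i j)
  have hmul : ∀ i j k, q i k * q k j = q i j := by
    intro i j k
    have h1 := hqq i j
    rw [Fin.sum_univ_four] at h1
    have h2 : ∀ k, q i k * q k j = 1 ∨ q i k * q k j = -1 := by
      intro k
      rcases hpm i k with h | h <;> rcases hpm k j with h' | h' <;> rw [h, h'] <;> norm_num
    have := h2 0; have := h2 1; have := h2 2; have := h2 3; have := hpm i j
    fin_cases k <;> simp only [_root_.Fin.zero_eta, _root_.Fin.isValue, _root_.Fin.mk_one, _root_.Fin.reduceFinMk] <;> omega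
  refine ⟨fun i => q i 0, fun i => hpm i 0, fun i j => ?_⟩
  have h1 := hmul i j 0
  rw [hqs 0 j] at h1
  show A i j = _ - q i 0 * q j 0
  rw [h1, hq]
  ring

end mat


section loc

open Cfsg.Agent.H651 Cfsg.Agent.H649 Cfsg.Agent.Characters
open Cfsg.Agent.Blocks.Blau (regPart regPart_of_not_dvd)
open Cfsg.Agent.H652.DoubleCount Cfsg.Agent.H645.FusCount Cfsg.Agent.H650
open Cfsg.Agent.H613.RegGram Cfsg.Agent.H644.CentralQuot

universe u

variable {H : Type u} [Group H] [Fintype H] {M : Ideal AlgInt} [M.IsPrime]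

/-- The characters with `U` in the kernel. -/
theorem quot_data [Fact (Nat.Prime 2)] (hM : IsPModular 2 M) {f : Set (IrrCharacter H)} (hf : IsPBlock M f)
    {D : Subgroup H} (hD : IsDefectGroup 2 M f D) (h8 : E8 D) {U : Subgroup H} [U.Normal]
    (hUc : U ≤ Subgroup.center H) (hUD : U ≤ D) (hU2 : Nat.card U = 2) :
    Nat.card (defl U f) = 4 ∧ IsPBlock M (defl U f) ∧ blockDefect 2 (defl U f) = 2 ∧ blockDefect 2 f = 3 := by
  have h3 : (2 : ℕ) ^ blockDefect 2 f = 2 ^ 3 := by
    rw [← Cfsg.Agent.S0908.result 2 M hM f hf D hD, h8.card]; norm_num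
  have hdf : blockDefect 2 f = 3 := Nat.pow_right_injective (le_refl 2) h3
  have hd := blockDefect_defl hM hUc (t := 1) (by rw [hU2, pow_one]) hf
  have hUp : IsPGroup 2 U := IsPGroup.of_card (n := 1) (by rw [hU2, pow_one])
  have := Fintype.ofFinite (H ⧸ U)
  have h3 := (Cfsg.Agent.H658.isDefectGroup_defl (U := U) hM hUc hUp hf hD).2
  have hb := isPBlock_defl (U := U) hM hUc hUp hf
  obtain ⟨e, he⟩ := exists_pair_of_isDefectGroup hM hb h3
  have hind := (isBrauerPairOf_iff_isInducedBlock hM hb (Cfsg.Agent.H641.isPGroup_of_isDefectGroup h3) he.1.2).1 he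
  have hc4 : Nat.card (D.map (QuotientGroup.mk' U)) = 4 := by
    rw [← Subgroup.relIndex_ker, QuotientGroup.ker_mk']
    have h5 := (U.subgroupOf D).card_mul_index
    rw [Nat.card_congr (Subgroup.subgroupOfEquivOfLe hUD).toEquiv, hU2, h8.card] at h5
    change 2 * U.relIndex D = 8 at h5
    omega
  have hV : IsKleinFour (D.map (QuotientGroup.mk' U)) := by
    refine ⟨hc4, ?_⟩
    have h5 : Monoid.exponent (D.map (QuotientGroup.mk' U)) ∣ 2 := by
      rw [Monoid.exponent_dvd_iff_forall_pow_eq_one]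
      rintro ⟨_, d, hd, rfl⟩
      refine Subtype.ext ?_
      show (QuotientGroup.mk' U d) ^ 2 = 1
      rw [← map_pow, pow_two, h8.inv d hd, map_one]
    rcases (Nat.dvd_prime Nat.prime_two).1 h5 with h6 | h6
    · rw [Monoid.exp_eq_one_iff] at h6
      have := Finite.card_le_one_iff_subsingleton.2 h6
      omega
    · exact h6
  have h5 := Cfsg.Agent.S4637.result M hM _ hb _ h3 hV e hind (stab (⟨_, e⟩ : BrauerPairIdx (H ⧸ U)))
    (fun g => by rw [mem_stab]; exact conjIdx_eq_iff he.1.2 g) _ rfl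
  exact ⟨h5.2.1, hb, by omega, hdf⟩

/-- The characters of the quotient, with signs. -/
theorem quot_signs [Fact (Nat.Prime 2)] (hM : IsPModular 2 M) {f : Set (IrrCharacter H)} (hf : IsPBlock M f)
    {U : Subgroup H} [U.Normal] (hUc : U ≤ Subgroup.center H) (hU2 : Nat.card U = 2)
    (h4 : Nat.card (defl U f) = 4) (hb : IsPBlock M (defl U f)) (hd2 : blockDefect 2 (defl U f) = 2)
    (hl : blockRank 2 f = 3) (h0 : ∀ θ ∈ f, blockHeight 2 f (θ : H → ℂ) = 0) :
    ∃ (ψ : Fin 4 → IrrCharacter H) (ε : Fin 4 → ℤ), (∀ i, ψ i ∈ f) ∧ (∀ i, ε i = 1 ∨ ε i = -1) ∧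
      (∀ s : H, ¬ 2 ∣ orderOf s → ∑ i, (ε i : ℂ) * (ψ i : H → ℂ) s = 0) ∧
      (∀ (i j : Fin 4), 8 * rg 2 (ψ i : H → ℂ) (ψ j : H → ℂ) =
        ((4 * (if i = j then 1 else 0) - ε i * ε j : ℤ) : ℂ)) ∧
      ∀ θ ∈ f, ∃ m : Fin 4 → ℤ, ∀ s : H, ¬ 2 ∣ orderOf s →
        (θ : H → ℂ) s = ∑ i, (m i : ℂ) * (ψ i : H → ℂ) s := by
  classical
  have hUp : IsPGroup 2 U := IsPGroup.of_card (n := 1) (by rw [hU2, pow_one])
  have := Fintype.ofFinite (H ⧸ U)
  have := Core.finite_irr (G := H ⧸ U)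
  have : Fintype (defl U f) := Fintype.ofFinite _
  have h4' : Fintype.card (defl U f) = 4 := by rw [← Nat.card_eq_fintype_card, h4]
  let e : Fin 4 ≃ defl U f := (Fintype.equivFinOfCardEq h4').symm
  -- the heights
  have hh : ∀ θ : defl U f, blockHeight 2 (defl U f) ((θ : IrrCharacter (H ⧸ U)) : H ⧸ U → ℂ) = 0 := by
    intro θ
    rw [← Cfsg.Agent.H644.SmallMin.blockHeight_infl hM hUc (t := 1) (by rw [hU2, pow_one]) hf θ.2]
    exact h0 _ (mem_defl.1 θ.2)
  -- the matrix
  choose A hA using fun i j : Fin 4 => exists_int_rg hM (e i).2 (e j : IrrCharacter (H ⧸ U))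
  rw [hd2] at hA
  have hA' : ∀ i j, (A i j : ℂ) = 4 * rg 2 ((e i : IrrCharacter (H ⧸ U)) : H ⧸ U → ℂ)
      ((e j : IrrCharacter (H ⧸ U)) : H ⧸ U → ℂ) := by
    intro i j
    rw [← hA i j]
    push_cast
    norm_num
  have hAs : ∀ i j, A i j = A j i := by
    intro i j
    have h1 : (A i j : ℂ) = (A j i : ℂ) := by
      rw [hA', hA', rg_comm 2 (Core.isIrr_isCharacter (e i).1.2) (Core.isIrr_isCharacter (e j).1.2)]
    exact_mod_cast h1
  have hAA : ∀ i j, ∑ k, A i k * A k j = 4 * A i j := by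
    intro i j
    have h1 := sum_rg_mul_rg (ψ := (e j : IrrCharacter (H ⧸ U))) hM hb (e i).2
    rw [← Equiv.sum_comp e] at h1
    have h2 : ((∑ k, A i k * A k j : ℤ) : ℂ) = ((4 * A i j : ℤ) : ℂ) := by
      push_cast
      rw [hA' i j, ← h1, Finset.mul_sum, Finset.mul_sum]
      refine Finset.sum_congr rfl fun k _ => ?_
      rw [hA', hA']
      ring
    exact_mod_cast h2
  have hAt : ∑ i, A i i = 12 := by
    have h1 := sum_rg_self hM hb
    rw [blockRank_defl hM hUc hUp hf, hl, ← Equiv.sum_comp e] at h1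
    have h2 : ((∑ i, A i i : ℤ) : ℂ) = ((12 : ℤ) : ℂ) := by
      push_cast
      rw [Finset.sum_congr rfl fun i _ => hA' i i, ← Finset.mul_sum, h1]
      norm_num
    exact_mod_cast h2
  have hAo : ∀ i j, ¬ 2 ∣ A i j := by
    intro i j
    obtain ⟨n, hn, -, hn2⟩ := Cfsg.Agent.H648.HeightForm.exists_int_height hM hb (e i).2 (hh (e i)) (e j).2
    rw [hh (e j), zero_add, pow_one] at hn2
    rw [pRegularPart_eq_regPart, ← rg_eq_classInner, hd2] at hn
    have h1 : (A i j : ℂ) = n := by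
      rw [← hn, hA']
      norm_num
    have h2 : A i j = n := by exact_mod_cast h1
    rw [h2]
    exact_mod_cast hn2
  obtain ⟨ε, hε, hAε⟩ := signs A hAs hAA hAt hAo
  refine ⟨fun i => infl U (e i), ε, fun i => (e i).2, hε, ?_, ?_, ?_⟩
  · -- the relation
    intro s hs
    have hs' : ¬ 2 ∣ orderOf (QuotientGroup.mk s : H ⧸ U) := not_dvd_orderOf_mk hs
    have h1 := congrFun (regPart_eq_sum_regPart hM hb (e 0).2) (QuotientGroup.mk s : H ⧸ U)
    rw [Finset.sum_apply, ← Equiv.sum_comp e, regPart_of_not_dvd hs'] at h1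
    have h2 : ∀ j, (rg 2 ((e 0 : IrrCharacter (H ⧸ U)) : H ⧸ U → ℂ)
        ((e j : IrrCharacter (H ⧸ U)) : H ⧸ U → ℂ) •
          regPart 2 ((e j : IrrCharacter (H ⧸ U)) : H ⧸ U → ℂ)) (QuotientGroup.mk s : H ⧸ U) =
        ((if (0 : Fin 4) = j then 1 else 0) - (ε 0 : ℂ) * ε j / 4) * (infl U (e j) : H → ℂ) s := by
      intro j
      rw [Pi.smul_apply, smul_eq_mul, regPart_of_not_dvd hs', infl_apply]
      congr 1
      have h3 := hA' 0 j
      rw [hAε 0 j] at h3
      push_cast at h3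
      have h4 : rg 2 ((e 0 : IrrCharacter (H ⧸ U)) : H ⧸ U → ℂ)
        ((e j : IrrCharacter (H ⧸ U)) : H ⧸ U → ℂ) = (4 * (if (0 : Fin 4) = j then 1 else 0) -
          (ε 0 : ℂ) * ε j) / 4 := by
        rw [h3]; ring
      rw [h4]
      ring
    rw [Finset.sum_congr rfl fun j _ => h2 j] at h1
    simp only [sub_mul, Finset.sum_sub_distrib] at h1
    have h5 : ∑ j : Fin 4, (if (0 : Fin 4) = j then (1 : ℂ) else 0) * (infl U (e j) : H → ℂ) s =
        (infl U (e 0) : H → ℂ) s := by
      rw [Finset.sum_eq_single 0]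
      · rw [if_pos rfl, one_mul]
      · intro j _ hj
        rw [if_neg (Ne.symm hj), zero_mul]
      · intro h; exact absurd (Finset.mem_univ _) h
    rw [h5, ← infl_apply] at h1
    have h6 : ∑ j : Fin 4, (ε 0 : ℂ) * ε j / 4 * (infl U (e j) : H → ℂ) s =
        (ε 0 : ℂ) / 4 * ∑ j, (ε j : ℂ) * (infl U (e j) : H → ℂ) s := by
      rw [Finset.mul_sum]
      refine Finset.sum_congr rfl fun j _ => ?_
      ring
    rw [h6] at h1
    have h7 : (ε 0 : ℂ) / 4 * ∑ j, (ε j : ℂ) * (infl U (e j) : H → ℂ) s = 0 := by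
      linear_combination h1
    rcases mul_eq_zero.1 h7 with h8 | h8
    · exfalso
      rcases hε 0 with h9 | h9 <;> rw [h9] at h8 <;> norm_num at h8
    · exact h8
  · intro i j
    have h1 := rg_infl hUc hUp (e i : IrrCharacter (H ⧸ U)) (e j : IrrCharacter (H ⧸ U))
    rw [hU2] at h1
    have h2 := hA' i j
    rw [h1, hAε i j] at h2
    rw [h2]
    push_cast
    ring
  · intro θ hθ
    obtain ⟨m, hm⟩ := Cfsg.Agent.H658.exists_int_defl hM hUc hUp hf hθ
    refine ⟨fun i => m (e i), fun s hs => ?_⟩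
    rw [hm s hs, ← Equiv.sum_comp e]

/-- The local data in the centralizer of the fixed involution. -/
theorem local_data [Fact (Nat.Prime 2)] (hM : IsPModular 2 M) {f : Set (IrrCharacter H)} {a : BrauerPairIdx H}
    (hmax : IsMaximalBrauerPair 2 M f a.1 a.2) (h8 : E8 a.1)
    (hidx : (Subgroup.centralizer (a.1 : Set H)).relIndex (stab a) = 3) {u : H} (hua : u ∈ a.1) (hu1 : u ≠ 1)
    (huc : ∀ g : H, u * g = g * u)
    (hfix : ∀ w ∈ a.1, (∀ t ∈ stab a, t * w * t⁻¹ = w) → w = 1 ∨ w = u) :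
    blockDefect 2 f = 3 ∧ (∀ θ ∈ f, blockHeight 2 f (θ : H → ℂ) = 0) ∧
      ∃ (ψ : Fin 4 → IrrCharacter H) (ε : Fin 4 → ℤ), (∀ i, ψ i ∈ f) ∧ (∀ i, ε i = 1 ∨ ε i = -1) ∧
      (∀ s : H, ¬ 2 ∣ orderOf s → ∑ i, (ε i : ℂ) * (ψ i : H → ℂ) s = 0) ∧
      (∀ (i j : Fin 4), 8 * rg 2 (ψ i : H → ℂ) (ψ j : H → ℂ) =
        ((4 * (if i = j then 1 else 0) - ε i * ε j : ℤ) : ℂ)) ∧
      ∀ θ ∈ f, ∃ m : Fin 4 → ℤ, ∀ s : H, ¬ 2 ∣ orderOf s →
        (θ : H → ℂ) s = ∑ i, (m i : ℂ) * (ψ i : H → ℂ) s := by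
  classical
  have hf : IsPBlock M f := hmax.1.2.1
  have hD := Cfsg.Agent.H644.isDefectGroup_of_isMaximalBrauerPair hM hmax
  have hab := Cfsg.Agent.H608.KKL.comm_of_inv h8.inv
  -- the central subgroup
  have huu : u * u = 1 := h8.inv u hua
  have ho : orderOf u = 2 := orderOf_eq_prime (by rw [pow_two, huu]) hu1
  obtain ⟨U, hU⟩ : ∃ U : Subgroup H, U = Subgroup.zpowers u := ⟨_, rfl⟩
  have hU2 : Nat.card U = 2 := by rw [hU, Nat.card_zpowers, ho]
  have hUc : U ≤ Subgroup.center H := by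
    rw [hU, Subgroup.zpowers_le, Subgroup.mem_center_iff]
    exact fun g => (huc g).symm
  have hUD : U ≤ a.1 := by rw [hU, Subgroup.zpowers_le]; exact hua
  have hUn : U.Normal := ⟨fun n hn g => by
    have h1 := Subgroup.mem_center_iff.1 (hUc hn) g
    rw [h1, mul_inv_cancel_right]
    exact hn⟩
  have hUp : IsPGroup 2 U := IsPGroup.of_card (n := 1) (by rw [hU2, pow_one])
  obtain ⟨h4, hb, hd2, hd3⟩ := quot_data hM hf hD h8 hUc hUD hU2
  -- the fixed points
  have hW : Nat.card {w : H // w ∈ a.1 ∧ ∀ t ∈ stab a, t * w * t⁻¹ = w} = 2 := by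
    rw [← hU2]
    refine Nat.card_congr
      { toFun := fun w => ⟨w.1, ?_⟩
        invFun := fun w => ⟨w.1, hUD w.2, fun t _ => ?_⟩
        left_inv := fun _ => rfl
        right_inv := fun _ => rfl }
    · rcases hfix w.1 w.2.1 w.2.2 with h | h
      · rw [h]; exact U.one_mem
      · rw [h, hU]; exact Subgroup.mem_zpowers u
    · rw [Subgroup.mem_center_iff.1 (hUc w.2) t, mul_inv_cancel_right]
  have hk := Cfsg.Agent.H617.AbelRank.card_of_prime hM hmax hab Nat.prime_three hidx
  rw [hW, h8.card] at hk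
  -- a moved element
  obtain ⟨v, hv, hvn⟩ : ∃ v ∈ a.1, ¬ ∀ t ∈ stab a, t * v * t⁻¹ = v := by
    by_contra hno
    push Not at hno
    have h2 : Nat.card {w : H // w ∈ a.1 ∧ ∀ t ∈ stab a, t * w * t⁻¹ = w} = Nat.card a.1 := Nat.card_congr
      { toFun := fun w => ⟨w.1, w.2.1⟩
        invFun := fun w => ⟨w.1, w.2, hno w.1 w.2⟩
        left_inv := fun _ => rfl
        right_inv := fun _ => rfl }
    rw [hW, h8.card] at h2
    omega
  have hrank : blockRank 2 (bP 2 M a v).2 = 1 :=
    Cfsg.Agent.H617.AbelRank.rank_one_of_prime hM hmax hab Nat.prime_three hidx hv hvn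
  have hbound := Cfsg.Agent.H608.KKL.bound hM hmax hab hv (by rw [hrank]; norm_num)
  -- the rank
  have hl := Cfsg.Agent.H608.KKL.rank_quot hM hf hD hUc hUD (by rw [h8.card, hU2]) fun d hd => by
    rw [h8.inv d hd]; exact U.one_mem
  have hl3 : blockRank 2 f = 3 := by
    rcases hl with hl | hl
    · exfalso
      rw [hl] at hk
      have hk4 : Nat.card f = 4 := by omega
      have := Fintype.ofFinite (H ⧸ U)
      have := Core.finite_irr (G := H ⧸ U)
      have := Core.finite_irr (G := H)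
      have : Fintype (defl U f) := Fintype.ofFinite _
      have : Fintype f := Fintype.ofFinite _
      let φ : defl U f → f := fun θ => ⟨infl U θ, mem_defl.1 θ.2⟩
      have hφi : Function.Injective φ := fun x y hxy =>
        Subtype.ext (infl_injective U (congrArg Subtype.val hxy))
      have hφ : Function.Bijective φ := by
        rw [Fintype.bijective_iff_injective_and_card]
        exact ⟨hφi, by rw [← Nat.card_eq_fintype_card, ← Nat.card_eq_fintype_card, h4, hk4]⟩
      have h1 := sum_rg_self hM hf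
      have h2 := sum_rg_self hM hb
      rw [blockRank_defl hM hUc hUp hf, hl] at h2
      rw [hl, ← hφ.sum_comp] at h1
      have h3 : ∑ θ : defl U f, rg 2 ((θ : IrrCharacter (H ⧸ U)) : H ⧸ U → ℂ)
          ((θ : IrrCharacter (H ⧸ U)) : H ⧸ U → ℂ) =
          2 * ∑ θ : defl U f, rg 2 ((φ θ : IrrCharacter H) : H → ℂ) ((φ θ : IrrCharacter H) : H → ℂ) := by
        rw [Finset.mul_sum]
        refine Finset.sum_congr rfl fun θ _ => ?_
        have h5 := rg_infl hUc hUp (θ : IrrCharacter (H ⧸ U)) (θ : IrrCharacter (H ⧸ U))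
        rw [hU2] at h5
        exact_mod_cast h5
      rw [h2, h1] at h3
      norm_num at h3
    · exact hl
  have h0 : ∀ θ ∈ f, blockHeight 2 f (θ : H → ℂ) = 0 := by
    refine hbound.2 ?_
    rw [hd3]
    omega
  exact ⟨hd3, h0, quot_signs hM hf hUc hU2 h4 hb hd2 hl3 h0⟩

end loc

end Cfsg.Agent.H611.KKL.LocAux

namespace Cfsg.Agent.H611.KKL

open Cfsg.Agent.H651 Cfsg.Agent.H649 Cfsg.Agent.Characters
open Cfsg.Agent.H652.DoubleCount Cfsg.Agent.H645.FusCount Cfsg.Agent.H650
open Cfsg.Agent.H613.RegGram Cfsg.Agent.H613.KKL Cfsg.Agent.H850.KKL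
open Cfsg.Agent.H611.KKL.LocAux

universe u

variable {G : Type u} [Group G] [Finite G]

/-- **The local data.** -/
theorem exists_loc {M : Ideal AlgInt} (hM : IsPModular 2 M) {B : Set (IrrCharacter G)} (hB : IsPBlock M B)
    {D : Subgroup G} (hD : IsDefectGroup 2 M B D) (h8 : E8 D)
    (c : Set (IrrCharacter (Subgroup.centralizer (D : Set G))))
    (hc : IsInducedBlock M (Subgroup.centralizer (D : Set G)) c B) (T : Subgroup G)
    (hT : ∀ g, g ∈ T ↔ (g ∈ Subgroup.normalizer (D : Set G) ∧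
      StabilizesBlock (Subgroup.centralizer (D : Set G)) c g))
    (h3 : 3 ∣ (Subgroup.centralizer (D : Set G)).relIndex T) :
    ∃ (u : G) (H : Subgroup G) (f : Set (IrrCharacter H)) (psi : Fin 4 → IrrCharacter H) (eps : Fin 4 → ℤ),
      Loc M B u H f psi eps := by
  classical
  have hp2 : Fact (Nat.Prime 2) := ⟨Nat.prime_two⟩
  have hMp := Cfsg.Agent.Blocks.Local.isPrime_of_isPModular hM
  have := Fintype.ofFinite G
  have hmax0 := Cfsg.Agent.H641.isMaximal_of_induced hM hD hc
  obtain ⟨a, ha⟩ : ∃ a : BrauerPairIdx G, a = ⟨D, c⟩ := ⟨_, rfl⟩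
  have hmax : IsMaximalBrauerPair 2 M B a.1 a.2 := by rw [ha]; exact hmax0
  have hTa : T = stab a := by
    ext g
    rw [hT, mem_stab, ha]
    exact (conjIdx_eq_iff hmax0.1.1.2 g).symm
  have hDa : a.1 = D := by rw [ha]
  rw [hTa, ← hDa] at h3
  rw [← hDa] at h8 hD
  clear hT hTa hc hmax0 ha hDa
  have hab := Cfsg.Agent.H608.KKL.comm_of_inv h8.inv
  obtain ⟨u, hu, hu1, hidx, hfix⟩ := exists_three h8 (Cfsg.Agent.H645.TraceForm.stab_le_normalizer hM hmax hab)
    (Cfsg.Agent.H617.AbelRank.centralizer_le_stab hM hmax hab)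
    (Cfsg.Agent.H645.TraceForm.not_dvd_relIndex_stab hM hmax hab) h3
  have huu := h8.inv u hu
  obtain ⟨b, a', hind, -, ha', hmax', hab', hstab⟩ := Cfsg.Agent.H617.AbelRank.exists_local hM hmax hab hu
  obtain ⟨H, hH⟩ : ∃ H, H = Subgroup.centralizer ({u} : Set G) := ⟨_, rfl⟩
  rw [← hH] at hidx
  revert b a'
  rw [← hH]
  intro b a' hind ha' hmax' hab' hstab
  have iH := Fintype.ofFinite H
  have haH : a.1 ≤ H := by
    intro x hx
    rw [hH, Subgroup.mem_centralizer_singleton_iff]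
    exact hab x hx u hu
  obtain ⟨u', hu'⟩ : ∃ u' : H, (u' : G) = u := ⟨⟨u, haH hu⟩, rfl⟩
  have hu'a : u' ∈ a'.1 := by
    rw [ha', Subgroup.mem_subgroupOf, hu']
    exact hu
  have hu'1 : u' ≠ 1 := by
    rintro rfl
    exact hu1 hu'.symm
  have hu'c : ∀ g : H, u' * g = g * u' := by
    intro g
    apply Subtype.ext
    change (u' : G) * g = g * u'
    rw [hu']
    have h1 : (g : G) ∈ Subgroup.centralizer ({u} : Set G) := hH.le g.2
    exact (Subgroup.mem_centralizer_singleton_iff.1 h1).symm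
  have h8' : E8 a'.1 := by
    refine ⟨?_, fun x hx => ?_⟩
    · rw [ha', ← h8.card]
      exact Nat.card_congr (Subgroup.subgroupOfEquivOfLe haH).toEquiv
    · rw [ha', Subgroup.mem_subgroupOf] at hx
      exact Subtype.ext (h8.inv x hx)
  have hC' : Subgroup.centralizer (a'.1 : Set H) =
      (Subgroup.centralizer (a.1 : Set G)).subgroupOf H := by
    ext x
    rw [Subgroup.mem_subgroupOf, Subgroup.mem_centralizer_iff, Subgroup.mem_centralizer_iff]
    constructor
    · intro h y hy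
      have h1 : (⟨y, haH hy⟩ : H) ∈ a'.1 := by
        rw [ha', Subgroup.mem_subgroupOf]
        exact hy
      exact congrArg Subtype.val (h _ h1)
    · intro h y hy
      rw [SetLike.mem_coe, ha', Subgroup.mem_subgroupOf] at hy
      exact Subtype.ext (h y hy)
  have hS' : stab a' = (stab a ⊓ H).subgroupOf H := by
    ext x
    rw [hstab, Subgroup.mem_subgroupOf, Subgroup.mem_inf]
    exact ⟨fun h => ⟨h, x.2⟩, fun h => h.1⟩
  have hidx' : (Subgroup.centralizer (a'.1 : Set H)).relIndex (stab a') = 3 := by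
    rw [hC', hS', Subgroup.relIndex_subgroupOf inf_le_right, hidx]
  have hfix' : ∀ w ∈ a'.1, (∀ t ∈ stab a', t * w * t⁻¹ = w) → w = 1 ∨ w = u' := by
    intro w hw h
    have hw' : (w : G) ∈ a.1 := by
      rw [ha', Subgroup.mem_subgroupOf] at hw
      exact hw
    rcases hfix w hw' (fun t ht htu => by
      have htH : t ∈ H := by
        rw [hH, Subgroup.mem_centralizer_singleton_iff]
        calc t * u = t * u * t⁻¹ * t := by group
          _ = u * t := by rw [htu]
      exact congrArg Subtype.val (h ⟨t, htH⟩ ((hstab _).2 ht))) with h1 | h1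
    · exact Or.inl (Subtype.ext h1)
    · exact Or.inr (Subtype.ext (h1.trans hu'.symm))
  obtain ⟨hdb, h0, ψ, ε, h1, h2, h3, h4, h5⟩ := local_data hM hmax' h8' hidx' hu'a hu'1 hu'c hfix'
  refine ⟨u, H, b, ψ, ε, huu, hu1, hH, hind, ?_, hdb, h0, h1, h2, h3, ?_, h5⟩
  · have h6 : (2 : ℕ) ^ blockDefect 2 B = 2 ^ 3 := by
      rw [← Cfsg.Agent.S0908.result 2 M hM B hB a.1 hD, h8.card]; norm_num
    exact Nat.pow_right_injective (le_refl 2) h6
  · intro inst i j
    have h6 : inst = iH := Subsingleton.elim _ _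
    subst h6
    exact h4 i j

end Cfsg.Agent.H611.KKL
end

section
prune_inst 0x4010000

-- part: H850/KKL/Twenty
section
set_option linter.all false

/-!
# S4546: 2-blocks with defect group `2^3` and inertial index divisible by three have heights zero
-/

set_option autoImplicit false

open Cfsg Cfsg.Agent.H613.KKL

namespace Cfsg.Agent.H850.KKL

universe u

/-- **Defect group `2^3`, inertial index 3 or 21: all heights are zero.** -/
theorem three {G : Type u} [Group G] [Finite G] {M : Ideal AlgInt} (hM : IsPModular 2 M) {B : Set (IrrCharacter G)}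
    (hB : IsPBlock M B) {D : Subgroup G} (hD : IsDefectGroup 2 M B D) (h8 : E8 D)
    (c : Set (IrrCharacter ↥(Subgroup.centralizer (D : Set G))))
    (hc : IsInducedBlock M (Subgroup.centralizer (D : Set G)) c B) (T : Subgroup G)
    (hT : ∀ g : G, g ∈ T ↔ (g ∈ Subgroup.normalizer (D : Set G) ∧
      StabilizesBlock (Subgroup.centralizer (D : Set G)) c g))
    (h3 : 3 ∣ (Subgroup.centralizer (D : Set G)).relIndex T) : ∀ χ ∈ B, blockHeight 2 B (χ : G → ℂ) = 0 := by
  obtain ⟨u, H, f, ψ, ε, L⟩ := Cfsg.Agent.H611.KKL.exists_loc hM hB hD h8 c hc T hT h3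
  exact core hM L

end Cfsg.Agent.H850.KKL
end

-- part: H613/KKL/CoThree
section
set_option linter.all false
open scoped Cfsg.Agent.FastGrp

/-!
# S4546, row `Co₃`

A 2-block of `Co₃` with an elementary abelian defect group `D` of order 8 and a character of positive height has
inertial index 7 (the index is odd and divides 168, and heights are zero if 3 divides it). So the block of `C(z)`,
`z` in `D`, is nilpotent, of rank one. By `Q1` the involutions `z` of `D` are of type 2B, `C(z) = 2 × M₁₂`, and the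
block of `M₁₂` with a Klein four defect group has rank three.
-/

set_option autoImplicit false

open Cfsg Subgroup
open Cfsg.Agent.H613.KKL
open Cfsg.Agent.SporRec.Co3.Chain Cfsg.Agent.SporRec.Co3.Ident

namespace Cfsg.Agent.H613.KKL.CoThree

universe u

open Cfsg.Agent.Blocks.Local Cfsg.Agent.Characters
open Cfsg.Agent.H649 Cfsg.Agent.H651 Cfsg.Agent.H652.DoubleCount
open Cfsg.Agent.H645.FusCount (stab mem_stab ctrl_of_abelian)
open Cfsg.Agent.H644.CentralQuot (defl blockRank_defl isPBlock_defl)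

/-- an automorphism of `2^3` of order prime to 2 and 3, with a fixed point, is trivial -/
theorem eq_one_of_fix {D : Type u} [Group D] [Finite D] (h8 : Nat.card D = 8) {φ : MulAut D}
    (h2 : ¬ 2 ∣ orderOf φ) (h3 : ¬ 3 ∣ orderOf φ) {z : D} (hz : z ≠ 1) (hφ : φ z = z) : φ = 1 := by
  by_contra hne
  have h1 : orderOf φ ≠ 1 := fun h => hne (orderOf_eq_one_iff.1 h)
  obtain ⟨p, hp, hd⟩ := Nat.exists_prime_and_dvd h1
  have : Fact p.Prime := ⟨hp⟩
  set ψ : MulAut D := φ ^ (orderOf φ / p) with hψ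
  have hψo : orderOf ψ = p := by
    rw [hψ, orderOf_pow_of_dvd (Nat.div_pos (Nat.le_of_dvd (orderOf_pos φ) hd) hp.pos).ne' (Nat.div_dvd_of_dvd hd),
      Nat.div_div_self hd (orderOf_pos φ).ne']
  have hZ : IsPGroup p (Subgroup.zpowers ψ) := IsPGroup.of_card (n := 1) (by rw [Nat.card_zpowers, hψo, pow_one])
  have hm := H581.KKL.modEq hZ
  have hψz : ψ z = z := by
    have h4 : φ ∈ MulAction.stabilizer (MulAut D) z := hφ
    exact Subgroup.pow_mem _ h4 _
  have hzf : z ∈ H581.KKL.fixSub (Subgroup.zpowers ψ) := by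
    intro χ hχ
    have h1 : Subgroup.zpowers ψ ≤ MulAction.stabilizer (MulAut D) z := (Subgroup.zpowers_le).2 hψz
    exact h1 hχ
  have hne1 : Nat.card (H581.KKL.fixSub (Subgroup.zpowers ψ)) ≠ 1 := by
    intro h
    have h4 : H581.KKL.fixSub (Subgroup.zpowers ψ) = ⊥ := Subgroup.card_eq_one.1 h
    rw [h4] at hzf
    exact hz (Subgroup.mem_bot.1 hzf)
  have hne8 : Nat.card (H581.KKL.fixSub (Subgroup.zpowers ψ)) ≠ 8 := by
    intro h
    have h4 := H581.KKL.eq_bot_of_fix h8 h
    rw [Subgroup.zpowers_eq_bot] at h4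
    rw [h4, orderOf_one] at hψo
    exact hp.one_lt.ne hψo
  have hp2 : p ≠ 2 := by rintro rfl; exact h2 hd
  have hp3 : p ≠ 3 := by rintro rfl; exact h3 hd
  rw [h8] at hm
  rcases H581.KKL.card_fix_cases h8 (Subgroup.zpowers ψ) with h4 | h4 | h4 | h4
  · exact hne1 h4
  · rw [h4] at hm
    have h5 : p ∣ 2 * 3 := (Nat.modEq_iff_dvd' (by norm_num)).1 hm.symm
    rcases (Nat.Prime.dvd_mul hp).1 h5 with h6 | h6
    · exact hp2 ((Nat.prime_dvd_prime_iff_eq hp Nat.prime_two).1 h6)
    · exact hp3 ((Nat.prime_dvd_prime_iff_eq hp Nat.prime_three).1 h6)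
  · rw [h4] at hm
    have h5 : p ∣ 2 ^ 2 := (Nat.modEq_iff_dvd' (by norm_num)).1 hm.symm
    exact hp2 ((Nat.prime_dvd_prime_iff_eq hp Nat.prime_two).1 (hp.dvd_of_dvd_pow h5))
  · exact hne8 h4

/-- **The abstract step**: a 2-block with defect group `2^3` and a positive height, no 3 in the inertial index: for
every involution `z` of `D` the local block at `z` has rank one; its domination modulo `⟨z⟩` has rank one and the
defect group `D/⟨z⟩`. -/
theorem local_one {G : Type u} [Group G] [Finite G] {M : Ideal AlgInt} (hM : IsPModular 2 M) {B : Set (IrrCharacter G)}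
    (hB : IsPBlock M B) {D : Subgroup G} (hD : IsDefectGroup 2 M B D) (h8 : E8 D) {χ : IrrCharacter G} (hχ : χ ∈ B)
    (hh : blockHeight 2 B (χ : G → ℂ) ≠ 0) {z : G} (hz : z ∈ D) (hz1 : z ≠ 1) :
    ∃ f : Set (IrrCharacter (centralizer ({z} : Set G))), IsPBlock M f ∧
      IsDefectGroup 2 M f (D.subgroupOf (centralizer ({z} : Set G))) ∧ blockRank 2 f = 1 := by
  classical
  have : Fact (Nat.Prime 2) := ⟨Nat.prime_two⟩
  have hMp := isPrime_of_isPModular hM
  have := Fintype.ofFinite G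
  obtain ⟨c, T, hc, hcD, hT⟩ := H610.KKL.exists_pair hM hB hD h8
  have h3 : ¬ 3 ∣ (Subgroup.centralizer (D : Set G)).relIndex T := fun h =>
    hh (H850.KKL.three hM hB hD h8 c hc T hT h χ hχ)
  have hmax := Cfsg.Agent.H641.isMaximal_of_induced hM hD hc
  have hab : ∀ x ∈ D, ∀ y ∈ D, x * y = y * x := H608.KKL.comm_of_inv h8.inv
  have hTs : stab (⟨D, c⟩ : BrauerPairIdx G) = T := by
    ext t
    rw [mem_stab, hT]
    exact conjIdx_eq_iff hc.1 t
  have hodd : ¬ 2 ∣ (Subgroup.centralizer (D : Set G)).relIndex (stab (⟨D, c⟩ : BrauerPairIdx G)) :=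
    Cfsg.Agent.H645.TraceForm.not_dvd_relIndex_stab (a := (⟨D, c⟩ : BrauerPairIdx G)) hM hmax hab
  rw [hTs] at hodd
  have hTN : T ≤ Subgroup.normalizer (D : Set G) := fun t ht => ((hT t).1 ht).1
  have hfree : ∀ t ∈ stab (⟨D, c⟩ : BrauerPairIdx G), t * z * t⁻¹ = z → t ∈ Subgroup.centralizer (D : Set G) := by
    intro t ht htz
    rw [hTs] at ht
    set φ : MulAut D := Subgroup.normalizerMonoidHom D ⟨t, hTN ht⟩ with hφ
    have happ : ∀ v : D, ((φ v : D) : G) = t * v * t⁻¹ := fun v => rfl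
    have hpow : ∀ (n : ℕ) (v : D), (((φ ^ n) v : D) : G) = t ^ n * v * (t ^ n)⁻¹ := by
      intro n v
      rw [hφ, ← map_pow]
      rfl
    have hone : φ ^ (Subgroup.centralizer (D : Set G)).relIndex T = 1 := by
      have h4 : t ^ (Subgroup.centralizer (D : Set G)).relIndex T ∈ Subgroup.centralizer (D : Set G) := by
        have hn : ((Subgroup.centralizer (D : Set G)).subgroupOf T).Normal := by
          refine ⟨fun b hb s => ?_⟩
          rw [Subgroup.mem_subgroupOf] at hb ⊢
          rw [Subgroup.mem_centralizer_iff] at hb ⊢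
          intro y hy
          have h1 : (s : G)⁻¹ * y * s ∈ D := (Subgroup.mem_normalizer_iff''.1 (hTN s.2) y).1 hy
          have h2 := hb _ h1
          push_cast
          calc y * ((s : G) * b * (s : G)⁻¹) = s * ((s : G)⁻¹ * y * s * b) * (s : G)⁻¹ := by group
            _ = s * (b * ((s : G)⁻¹ * y * s)) * (s : G)⁻¹ := by rw [h2]
            _ = (s : G) * b * (s : G)⁻¹ * y := by group
        exact Subgroup.pow_index_mem ((Subgroup.centralizer (D : Set G)).subgroupOf T) ⟨t, ht⟩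
      ext v
      rw [hpow, ← Subgroup.mem_centralizer_iff.1 h4 v v.2, mul_inv_cancel_right]
      rfl
    have hord := orderOf_dvd_of_pow_eq_one hone
    have h5 : φ = 1 := eq_one_of_fix h8.card (fun h => hodd (h.trans hord)) (fun h => h3 (h.trans hord))
      (z := ⟨z, hz⟩) (fun h => hz1 (congrArg Subtype.val h)) (Subtype.ext (by rw [happ]; exact htz))
    rw [Subgroup.mem_centralizer_iff]
    intro y hy
    have h6 := happ ⟨y, hy⟩
    rw [h5] at h6
    have h7 : y = t * y * t⁻¹ := h6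
    conv_lhs => rw [h7]
    group
  obtain ⟨hr, hdef⟩ := H990.KKL.rank_one_of_free hM (a := (⟨D, c⟩ : BrauerPairIdx G)) hmax hab hz hfree
  obtain ⟨h1, h2⟩ := bP_spec hM hmax.1.1 (a := (⟨D, c⟩ : BrauerPairIdx G)) hz
  obtain ⟨hf, -⟩ := H608.KKL.exists_local (a := (⟨D, c⟩ : BrauerPairIdx G)) hM hmax hab
    (Q := (bP 2 M (⟨D, c⟩ : BrauerPairIdx G) z).1) (f := (bP 2 M (⟨D, c⟩ : BrauerPairIdx G) z).2) h2
  have hH : Subgroup.centralizer ((bP 2 M (⟨D, c⟩ : BrauerPairIdx G) z).1 : Set G) =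
      Subgroup.centralizer ({z} : Set G) := by
    rw [h1, Cfsg.Agent.H652.Ctr.centralizer_zpowers_eq]
  -- transport along the equality
  have key : ∀ (L : Subgroup G) (f : Set (IrrCharacter L)), L = centralizer ({z} : Set G) → IsPBlock M f →
      IsDefectGroup 2 M f (D.subgroupOf L) → blockRank 2 f = 1 →
      ∃ f : Set (IrrCharacter (centralizer ({z} : Set G))), IsPBlock M f ∧
      IsDefectGroup 2 M f (D.subgroupOf (centralizer ({z} : Set G))) ∧ blockRank 2 f = 1 := by
    rintro L f rfl h4 h5 h6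
    exact ⟨f, h4, h5, h6⟩
  exact key _ _ hH hf hdef hr

/-- conjugate of a homomorphism on the centralizer of an involution -/
theorem hom_conj {X U : Type*} [Group X] [Group U] {w g : X} (f : centralizer ({w} : Set X) →* U)
    (hf : Function.Surjective f) (hk : ∀ x, f x = 1 → x = 1 ∨ (x : X) = w) :
    ∃ f' : centralizer ({g * w * g⁻¹} : Set X) →* U, Function.Surjective f' ∧
      ∀ x, f' x = 1 → x = 1 ∨ (x : X) = g * w * g⁻¹ := by
  have h1 : ∀ x : centralizer ({g * w * g⁻¹} : Set X), g⁻¹ * (x : X) * g ∈ centralizer ({w} : Set X) := by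
    intro x
    have h2 := mem_centralizer_singleton_iff.1 x.2
    rw [mem_centralizer_singleton_iff]
    calc g⁻¹ * (x : X) * g * w = g⁻¹ * ((x : X) * (g * w * g⁻¹)) * g := by group
      _ = g⁻¹ * ((g * w * g⁻¹) * (x : X)) * g := by rw [h2]
      _ = w * (g⁻¹ * (x : X) * g) := by group
  let c : centralizer ({g * w * g⁻¹} : Set X) →* centralizer ({w} : Set X) :=
    { toFun := fun x => ⟨g⁻¹ * (x : X) * g, h1 x⟩
      map_one' := Subtype.ext (by simp)
      map_mul' := fun x y => Subtype.ext (by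
        change g⁻¹ * ((x : X) * (y : X)) * g = (g⁻¹ * (x : X) * g) * (g⁻¹ * (y : X) * g)
        group) }
  have hc : ∀ x, ((c x : centralizer ({w} : Set X)) : X) = g⁻¹ * (x : X) * g := fun _ => rfl
  refine ⟨f.comp c, ?_, ?_⟩
  · intro u
    obtain ⟨y, hy⟩ := hf u
    have h3 : g * (y : X) * g⁻¹ ∈ centralizer ({g * w * g⁻¹} : Set X) := by
      have h2 := mem_centralizer_singleton_iff.1 y.2
      rw [mem_centralizer_singleton_iff]
      calc g * (y : X) * g⁻¹ * (g * w * g⁻¹) = g * ((y : X) * w) * g⁻¹ := by group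
        _ = g * (w * (y : X)) * g⁻¹ := by rw [h2]
        _ = g * w * g⁻¹ * (g * (y : X) * g⁻¹) := by group
    refine ⟨⟨_, h3⟩, ?_⟩
    rw [← hy, MonoidHom.comp_apply]
    congr 1
    apply Subtype.ext
    rw [hc]
    change g⁻¹ * (g * (y : X) * g⁻¹) * g = y
    group
  · intro x hx
    rcases hk (c x) hx with h | h
    · left
      have h2 := congrArg Subtype.val h
      rw [hc] at h2
      have h3 : g⁻¹ * (x : X) * g = 1 := h2
      apply Subtype.ext
      have h4 : (x : X) = g * (g⁻¹ * (x : X) * g) * g⁻¹ := by group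
      rw [h4, h3, mul_one, mul_inv_cancel]
      rfl
    · right
      rw [hc] at h
      calc (x : X) = g * (g⁻¹ * (x : X) * g) * g⁻¹ := by group
        _ = g * w * g⁻¹ := by rw [h]

/-- a simple group of order 95040 has trivial centre -/
theorem center_bot_of {U : Type*} [Group U] [IsSimpleGroup U] (h : Nat.card U = 95040) : center U = ⊥ := by
  have hf : Finite U := Nat.finite_of_card_ne_zero (by rw [h]; norm_num)
  rcases (inferInstance : (center U).Normal).eq_bot_or_eq_top with h1 | h1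
  · exact h1
  · exfalso
    letI : CommGroup U := Group.commGroupOfCenterEqTop h1
    have h2 : (Nat.card U).Prime := IsSimpleGroup.prime_card
    rw [h] at h2
    norm_num at h2

/-- the `2·M₁₂` step: a 2-block of `2 × M₁₂` with an elementary abelian defect group of order 8 has rank three -/
theorem rank_three {C : Type} [Group C] [Finite C] {z : C} (hz1 : z ≠ 1) (hzz : z * z = 1)
    (hzc : ∀ x : C, x * z = z * x) (φ : C →* Spor.M12) (hφ : Function.Surjective φ)
    (hk : ∀ x, φ x = 1 → x = 1 ∨ x = z) (hcen : center Spor.M12 = ⊥) {M : Ideal AlgInt} (hM : IsPModular 2 M)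
    {f : Set (IrrCharacter C)} (hf : IsPBlock M f) {D : Subgroup C} (hD : IsDefectGroup 2 M f D)
    (h8 : Nat.card D = 8) (hinv : ∀ d ∈ D, d * d = 1) : blockRank 2 f = 3 := by
  classical
  have : Fact (Nat.Prime 2) := ⟨Nat.prime_two⟩
  have hMp := isPrime_of_isPModular hM
  have hφz : φ z = 1 := by
    have h1 : φ z ∈ center Spor.M12 := by
      rw [mem_center_iff]
      intro u
      obtain ⟨x, rfl⟩ := hφ u
      rw [← map_mul, ← map_mul, hzc x]
    rw [hcen] at h1
    exact mem_bot.1 h1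
  have hker : (φ.ker : Set C) = {1, z} := by
    ext x
    simp only [SetLike.mem_coe, MonoidHom.mem_ker, Set.mem_insert_iff, Set.mem_singleton_iff]
    constructor
    · exact hk x
    · rintro (rfl | rfl)
      · exact map_one φ
      · exact hφz
  have hcard : Nat.card φ.ker = 2 := by
    have h1 : Nat.card φ.ker = (φ.ker : Set C).ncard := Nat.card_coe_set_eq _
    rw [h1, hker, Set.ncard_pair hz1.symm]
  have hUc : φ.ker ≤ center C := by
    intro x hx
    rw [mem_center_iff]
    intro g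
    rcases hk x hx with rfl | rfl
    · rw [mul_one, one_mul]
    · exact hzc g
  have hUp : IsPGroup 2 φ.ker := IsPGroup.of_card (n := 1) (by rw [hcard, pow_one])
  have := Fintype.ofFinite C
  have := Fintype.ofFinite (C ⧸ φ.ker)
  obtain ⟨hUD, h3⟩ := Cfsg.Agent.H658.isDefectGroup_defl (U := φ.ker) hM hUc hUp hf hD
  have hb := isPBlock_defl (U := φ.ker) hM hUc hUp hf
  have hc4 : Nat.card (D.map (QuotientGroup.mk' φ.ker)) = 4 := by
    rw [← Subgroup.relIndex_ker, QuotientGroup.ker_mk']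
    have h5 := (φ.ker.subgroupOf D).card_mul_index
    rw [Nat.card_congr (Subgroup.subgroupOfEquivOfLe hUD).toEquiv, h8, hcard] at h5
    have h6 : (φ.ker.subgroupOf D).index = 4 := by omega
    exact h6
  obtain ⟨ψ, hψ, hβ, -, hrg, -⟩ := Cfsg.Agent.H425.KKL.MTwelve.Q4
    (QuotientGroup.quotientKerEquivOfSurjective φ hφ) hM hb h3 hc4 (by
      rintro _ ⟨d, hd, rfl⟩
      rw [← map_mul, hinv d hd, map_one])
  rw [← blockRank_defl hM hUc hUp hf]
  have hfi : Finite (IrrCharacter (C ⧸ φ.ker)) := Core.finite_irr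
  have hfb : Fintype ↥(defl φ.ker f) := Fintype.ofFinite _
  have hsum := Cfsg.Agent.H613.RegGram.sum_rg_self hM hb
  let e : Fin 4 ≃ ↥(defl φ.ker f) :=
    (Equiv.ofInjective ψ hψ).trans (Equiv.setCongr hβ.symm)
  have he : ∀ i, ((e i : ↥(defl φ.ker f)) : IrrCharacter (C ⧸ φ.ker)) = ψ i := fun i => rfl
  rw [← e.sum_comp] at hsum
  have hee : ∀ i, (Cfsg.Agent.H425.KKL.MTwelve.ee i : ℂ) * (Cfsg.Agent.H425.KKL.MTwelve.ee i : ℂ) = 1 := by
    intro i
    have h7 : ∀ i, Cfsg.Agent.H425.KKL.MTwelve.ee i * Cfsg.Agent.H425.KKL.MTwelve.ee i = 1 := by decide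
    exact_mod_cast h7 i
  simp only [he, hrg, if_true, hee, Finset.sum_const, Finset.card_univ, Fintype.card_fin, nsmul_eq_mul] at hsum
  have h8' : (blockRank 2 (defl φ.ker f) : ℂ) = ((3 : ℕ) : ℂ) := by
    rw [← hsum]
    norm_num
  exact_mod_cast h8'

/-- **no positive height in `Co₃`** -/
theorem hz_G3 : HZ G3 := by
  classical
  intro M hM B hB D hD h8 χ hχ
  by_contra hh
  have : Fact (Nat.Prime 2) := ⟨Nat.prime_two⟩
  have hMp := isPrime_of_isPModular hM
  obtain ⟨x, θ, hcfg⟩ := Block.A5 hM hB hD h8 hχ hh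
  have h0 := hcfg.toCfg0
  -- an involution of `D`
  obtain ⟨z, hz, hz1⟩ : ∃ z ∈ D, z ≠ 1 := by
    have h1 : 1 < Nat.card D := by rw [h8.card]; norm_num
    have : Nontrivial D := (Finite.one_lt_card_iff_nontrivial).1 h1
    obtain ⟨z, hz⟩ := exists_ne (1 : D)
    exact ⟨z, z.2, fun h => hz (Subtype.ext h)⟩
  have hz2 : orderOf z = 2 := by
    rw [orderOf_eq_prime_iff]
    exact ⟨by rw [pow_two]; exact h8.inv _ hz, hz1⟩
  obtain ⟨w, dat⟩ := Cfsg.Agent.CTwoTab.Co3.exists_data
  obtain ⟨g, hg | hg⟩ := dat.cls z hz2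
  · refine CoThreeA.Q1 h0 hz ?_
    rw [isConj_iff]
    exact ⟨g, hg.symm⟩
  obtain ⟨f0, hf0, hk0⟩ := dat.hom
  obtain ⟨φ, hφ, hker⟩ := hom_conj (g := g) f0 hf0 hk0
  obtain ⟨f, hf, hfD, hr⟩ := local_one hM hB hD h8 hχ hh hz hz1
  have hG := dat.simple
  have hfin : Finite ↥(centralizer ({z} : Set G3)) := inferInstance
  have hDC : D ≤ centralizer ({z} : Set G3) := fun d hd =>
    mem_centralizer_singleton_iff.2 (H608.KKL.comm_of_inv h8.inv d hd z hz)
  subst hg
  have h3 := rank_three (C := ↥(centralizer ({g * w * g⁻¹} : Set G3))) (z := ⟨g * w * g⁻¹, hDC hz⟩)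
    (fun h => hz1 (congrArg Subtype.val h)) (Subtype.ext (h8.inv _ hz))
    (fun y => Subtype.ext (mem_centralizer_singleton_iff.1 y.2)) φ hφ
    (fun y hy => by
      rcases hker y hy with h | h
      · exact Or.inl h
      · exact Or.inr (Subtype.ext h))
    (center_bot_of dat.card) hM hf hfD (by rw [Nat.card_congr (Subgroup.subgroupOfEquivOfLe hDC).toEquiv, h8.card])
    (fun d hd => Subtype.ext (h8.inv _ hd))
  omega

/-- **F_Co3** -/
theorem F_Co3 {K : Type u} [Group K] [Finite K] (hK : IsQuasisimple K) (_hZ : Odd (Nat.card ↥(center K)))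
    (h : Spor.IsoCo3 (K ⧸ center K)) : HZ K := by
  obtain ⟨e⟩ := h
  have h1 : center K = ⊥ := H417.KKL.center_bot hK Cfsg.Agent.S2045.result (Nat.coprime_one_right _) e
  let g : K ≃* K ⧸ center K :=
    (QuotientGroup.quotientBot.symm).trans (QuotientGroup.quotientMulEquivOfEq h1.symm)
  exact H610.KKL.A7' ((g.trans e).trans SporRec.Co3.Model.equivCo3.symm) hz_G3

end Cfsg.Agent.H613.KKL.CoThree
end

-- part: H749/KKL/CombE8b_mg
section

end

-- part: H749/KKL/TorE8
section
set_option linter.all false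
open scoped Cfsg.Agent.FastGrp

/-!
# S4546, `E₈`: the involutions of the torus over a locally finite field (helper749)

* `emb_th` : embeddings and the torus; `exists_th` : `TT chevE8 k = (kˣ)^8`;
* `exists_mask` : the involutions of the torus are the sign vectors of the masks `m < 256`;
* `ch_mask` : their characters; `trL_mask` : their traces on the Lie algebra.
-/

set_option autoImplicit false
set_option linter.unusedSectionVars false

namespace Cfsg.Agent.H749.KKL

open CoxeterSystem Cfsg Cfsg.Lie Cfsg.Lie.ChevalleyDatum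
open Cfsg.Agent.ChevalleyStructure Cfsg.Agent.ChevalleyStructure.Elts Cfsg.Agent.ChevalleyStructure.CoxeterGeom
  Cfsg.Agent.ChevalleyStructure.CoxeterGeomTypes Cfsg.Agent.ChevalleyStructure.NPerm
open Cfsg.Agent.Tits.Roots Cfsg.Agent.Tits.Core Cfsg.Agent.Nodes Cfsg.Agent.Nodes.Reps Cfsg.Agent.Nodes.BNOf
  Cfsg.Agent.Nodes.RGDChev Cfsg.Agent.Nodes.Bruhat Cfsg.Agent.Nodes.NormalForm
open Cfsg.Agent.KFacts.RgdField Cfsg.Agent.KFacts.RgdChevCoord
open Cfsg.Agent.BpExc.TorCent Cfsg.Agent.BpExc.TorChev Cfsg.Agent.BpExc.Tow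
  Cfsg.Agent.BpExc.TowChev Cfsg.Agent.GpExc.Field
open Cfsg.Agent.OddHalf.NI.ModelChev Cfsg.Agent.H557.SignTorus Cfsg.Agent.H557.OrbE8 Cfsg.Agent.H557.ToralTypes
open Cfsg.Agent.H167.KKL

universe u

section Gen

variable {D : ChevalleyDatum} {l : ℕ} {M : CoxeterMatrix (Fin l)} (hp : IsType D l M)
  {F K : Type u} [Field F] [Field K]

/-- embeddings and the torus -/
theorem emb_th (f : F →+* K) (b : Fin l → Fˣ) :
    emb hp.inList f (th hp b) = th hp (fun i => Units.map (f : F →* K) (b i)) := by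
  have h : (emb hp.inList f).comp (th hp) = (th hp).comp ((Units.map (f : F →* K)).compLeft (Fin l)) := by
    refine MonoidHom.pi_ext fun i x => ?_
    show emb hp.inList f (th hp (Pi.mulSingle i x)) = th hp ((Units.map (f : F →* K)).compLeft (Fin l) (Pi.mulSingle i x))
    have h1 : (Units.map (f : F →* K)).compLeft (Fin l) (Pi.mulSingle i x) =
        Pi.mulSingle i (Units.map (f : F →* K) x) := by
      funext j
      show Units.map (f : F →* K) ((Pi.mulSingle i x : Fin l → Fˣ) j) = _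
      by_cases hj : j = i
      · subst hj
        rw [Pi.mulSingle_eq_same, Pi.mulSingle_eq_same]
      · rw [Pi.mulSingle_eq_of_ne hj, Pi.mulSingle_eq_of_ne hj, map_one]
    rw [h1, th_mulSingle, th_mulSingle, sl_dd, sl_dd, emb_hc]
    rfl
  exact DFunLike.congr_fun h b

theorem th_mem (b : Fin l → Kˣ) : th hp b ∈ TT D K := (thT hp b).2

/-- xor of masks -/
theorem sg_xor (m m' : ℕ) : sg K l (m ^^^ m') = sg K l m * sg K l m' := by
  funext i
  rw [Pi.mul_apply]
  unfold sg
  rw [Nat.testBit_xor]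
  cases m.testBit i <;> cases m'.testBit i <;> simp

/-- the sign vectors come from every field -/
theorem map_sg (f : F →+* K) (m : ℕ) : (fun i => Units.map (f : F →* K) (sg F l m i)) = sg K l m := by
  funext i
  unfold sg
  split_ifs
  · apply Units.ext
    rw [Units.coe_map, Units.val_neg, Units.val_one, Units.val_neg, Units.val_one]
    show f (-1) = -1
    rw [map_neg, map_one]
  · rw [map_one]

theorem emb_sg (f : F →+* K) (m : ℕ) : emb hp.inList f (th hp (sg F l m)) = th hp (sg K l m) := by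
  rw [emb_th, map_sg]

end Gen

section E8

variable (hp : IsType chevE8 8 CoxeterMatrix.E₈) {k : Type u} [Field k]

theorem inj_th (b : Fin 8 → kˣ) (h : th hp b = 1) : b = 1 := funext fun i => th_ker_E8 h i

theorem th_injective : Function.Injective (th hp (K := k)) := by
  rw [injective_iff_map_eq_one]
  exact fun b hb => inj_th hp b hb

/-- the torus -/
theorem exists_th (hk : LocFin k) {t : ↥(chevE8.group k)} (ht : t ∈ TT chevE8 k) : ∃ b, th hp b = t := by
  obtain ⟨E, hE⟩ := exists_TT hp hk ht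
  obtain ⟨t', ht', rfl⟩ := hE E le_rfl
  have := Fintype.ofFinite ↥E.1
  obtain ⟨b, rfl⟩ := surj_E8 ht'
  exact ⟨_, (emb_th hp _ b).symm⟩

/-- the involutions of the torus -/
theorem exists_mask (hk : LocFin k) {t : ↥(chevE8.group k)} (ht : t ∈ TT chevE8 k) (h1 : t * t = 1) :
    ∃ m < 256, th hp (sg k 8 m) = t := by
  obtain ⟨b, rfl⟩ := exists_th hp hk ht
  have h2 : b * b = 1 := inj_th hp _ (by rw [map_mul, h1])
  obtain ⟨m, hm, rfl⟩ := exists_sg h2
  exact ⟨m, hm, rfl⟩

theorem th_sg_mul_self (m : ℕ) : th hp (sg k 8 m) * th hp (sg k 8 m) = 1 := by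
  rw [← map_mul, sg_mul_self, map_one]

theorem mask_inj (h2 : (2 : k) ≠ 0) {m m' : ℕ} (hm : m < 256) (hm' : m' < 256)
    (h : th hp (sg k 8 m) = th hp (sg k 8 m')) : m = m' :=
  sg_inj (l := 8) h2 hm hm' (th_injective hp h)

/-- the mask of a root -/
def cr (r : ℕ) : ℕ := if r < 120 then ca.getD (119 - r) 0 else ca.getD (r - 120) 0

private noncomputable def _root_.Cfsg.Agent.LsF.f669915_0 : {f // @Cfsg.Agent.H749.KKL.cr = f} := ⟨_, by first | (delta Cfsg.Agent.H749.KKL.cr; rewrite [Cfsg.Agent.LsF.nsub_pat, Cfsg.Agent.LsF.decLt_eq, Cfsg.Agent.LsF.getD_eq, Cfsg.Agent.LsF.ite_eq]; exact rfl) | exact rfl⟩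
private noncomputable def _root_.Cfsg.Agent.LsF.f669915_1 : {f // @Cfsg.Lie.ChevalleyDatum.cartan = f} := ⟨_, by first | (delta Cfsg.Lie.ChevalleyDatum.cartan; rewrite [Cfsg.Agent.LsF.agetD_eq]; exact rfl) | exact rfl⟩
set_option backward.isDefEq.respectTransparency false in
set_option maxRecDepth 20000 in
theorem cr_spec_0 : ∀ r < 60, ∀ i < 8, (cr r).testBit i = decide (chevE8.cartan i r % 2 ≠ 0) := by
  (refine of_decide_eq_true ?_; (try (rewrite [Cfsg.Agent.LsF.f669915_0.2, Cfsg.Agent.LsF.f669915_1.2, Cfsg.Agent.LsF.imod_pat, Cfsg.Agent.LsF.testBit_eq, Cfsg.Agent.LsF.instIDecEq_eq, Cfsg.Agent.LsF.dNot_eq, Cfsg.Agent.LsF.dBoolEq_eq, Cfsg.Agent.LsF.dBallLT_eq, Cfsg.Agent.LsF.decide_eq])); decide +kernel)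

set_option backward.isDefEq.respectTransparency false in
set_option maxRecDepth 20000 in
theorem cr_spec_1 : ∀ r < 60, ∀ i < 8, (cr (60 + r)).testBit i = decide (chevE8.cartan i (60 + r) % 2 ≠ 0) := by
  (refine of_decide_eq_true ?_; (try (rewrite [Cfsg.Agent.LsF.f669915_0.2, Cfsg.Agent.LsF.f669915_1.2, Cfsg.Agent.LsF.nadd_pat, Cfsg.Agent.LsF.imod_pat, Cfsg.Agent.LsF.testBit_eq, Cfsg.Agent.LsF.instIDecEq_eq, Cfsg.Agent.LsF.dNot_eq, Cfsg.Agent.LsF.dBoolEq_eq, Cfsg.Agent.LsF.dBallLT_eq, Cfsg.Agent.LsF.decide_eq])); decide +kernel)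

set_option backward.isDefEq.respectTransparency false in
set_option maxRecDepth 20000 in
theorem cr_spec_2 : ∀ r < 60, ∀ i < 8, (cr (120 + r)).testBit i = decide (chevE8.cartan i (120 + r) % 2 ≠ 0) := by
  (refine of_decide_eq_true ?_; (try (rewrite [Cfsg.Agent.LsF.f669915_0.2, Cfsg.Agent.LsF.f669915_1.2, Cfsg.Agent.LsF.nadd_pat, Cfsg.Agent.LsF.imod_pat, Cfsg.Agent.LsF.testBit_eq, Cfsg.Agent.LsF.instIDecEq_eq, Cfsg.Agent.LsF.dNot_eq, Cfsg.Agent.LsF.dBoolEq_eq, Cfsg.Agent.LsF.dBallLT_eq, Cfsg.Agent.LsF.decide_eq])); decide +kernel)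

set_option backward.isDefEq.respectTransparency false in
set_option maxRecDepth 20000 in
theorem cr_spec_3 : ∀ r < 60, ∀ i < 8, (cr (180 + r)).testBit i = decide (chevE8.cartan i (180 + r) % 2 ≠ 0) := by
  (refine of_decide_eq_true ?_; (try (rewrite [Cfsg.Agent.LsF.f669915_0.2, Cfsg.Agent.LsF.f669915_1.2, Cfsg.Agent.LsF.nadd_pat, Cfsg.Agent.LsF.imod_pat, Cfsg.Agent.LsF.testBit_eq, Cfsg.Agent.LsF.instIDecEq_eq, Cfsg.Agent.LsF.dNot_eq, Cfsg.Agent.LsF.dBoolEq_eq, Cfsg.Agent.LsF.dBallLT_eq, Cfsg.Agent.LsF.decide_eq])); decide +kernel)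

theorem cr_spec : ∀ r < 240, ∀ i < 8, (cr r).testBit i = decide (chevE8.cartan i r % 2 ≠ 0) := by
  intro r hr
  rcases Nat.lt_or_ge r 60 with h | h
  · exact cr_spec_0 r h
  rcases Nat.lt_or_ge r 120 with h' | h'
  · obtain ⟨s, rfl⟩ := Nat.exists_eq_add_of_le h
    exact cr_spec_1 s (by omega)
  rcases Nat.lt_or_ge r 180 with h'' | h''
  · obtain ⟨s, rfl⟩ := Nat.exists_eq_add_of_le h'
    exact cr_spec_2 s (by omega)
  · obtain ⟨s, rfl⟩ := Nat.exists_eq_add_of_le h''
    exact cr_spec_3 s (by omega)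

theorem nroots_E8 : chevE8.nroots = 240 := by decide +kernel

/-- the characters of the involutions -/
theorem ch_mask {r : ℕ} (hr : r < chevE8.nroots) (m : ℕ) :
    ch hp (vec chevE8 8 r) (th hp (sg k 8 m)) = if par 8 (m &&& cr r) then -1 else 1 := by
  have h1 : ch hp (vec chevE8 8 r) (th hp (sg k 8 m)) = chH hp hr (thT hp (sg k 8 m)) := rfl
  have hr' : r < 240 := by rw [← nroots_E8]; exact hr
  rw [h1, chH_thT]
  have h2 : ∏ i : Fin 8, ((sg k 8 m i : kˣ) : k) ^ chevE8.cartan i r =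
      ((∏ i : Fin 8, (if (m &&& cr r).testBit i then (-1 : kˣ) else 1) : kˣ) : k) := by
    rw [Units.coe_prod]
    refine Finset.prod_congr rfl fun i _ => ?_
    rw [Nat.testBit_and, cr_spec r hr' i i.2, ← Units.val_zpow_eq_zpow_val]
    congr 1
    unfold sg
    rcases Int.emod_two_eq_zero_or_one (chevE8.cartan i r) with h3 | h3
    · have h4 : Even (chevE8.cartan i r) := Int.even_iff.2 h3
      simp only [h3, ne_eq, not_true_eq_false, decide_false, Bool.and_false, Bool.false_eq_true, if_false]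
      split_ifs
      · rw [h4.neg_one_zpow]
      · rw [one_zpow]
    · have h4 : Odd (chevE8.cartan i r) := Int.odd_iff.2 h3
      simp only [h3, ne_eq, one_ne_zero, not_false_eq_true, decide_true, Bool.and_true]
      split_ifs
      · rw [h4.neg_one_zpow]
      · rw [one_zpow]
  rw [h2, prod_par]
  split_ifs
  · rw [Units.val_neg, Units.val_one]
  · rw [Units.val_one]

end E8

end Cfsg.Agent.H749.KKL
end

-- part: H749/KKL/TrE8
section
set_option linter.all false
open scoped Cfsg.Agent.FastGrp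

/-!
# S4546, `E₈`: traces of the involutions of the torus, Frobenius fixed points (helper749)
-/

set_option autoImplicit false
set_option linter.unusedSectionVars false

namespace Cfsg.Agent.H749.KKL

open CoxeterSystem Cfsg Cfsg.Lie Cfsg.Lie.ChevalleyDatum
open Cfsg.Agent.ChevalleyStructure Cfsg.Agent.ChevalleyStructure.Elts Cfsg.Agent.ChevalleyStructure.CoxeterGeom
  Cfsg.Agent.ChevalleyStructure.CoxeterGeomTypes Cfsg.Agent.ChevalleyStructure.NPerm
open Cfsg.Agent.Tits.Roots Cfsg.Agent.Tits.Core Cfsg.Agent.Nodes Cfsg.Agent.Nodes.Reps Cfsg.Agent.Nodes.BNOf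
  Cfsg.Agent.Nodes.RGDChev Cfsg.Agent.Nodes.Bruhat Cfsg.Agent.Nodes.NormalForm
open Cfsg.Agent.KFacts.RgdField Cfsg.Agent.KFacts.RgdChevCoord
open Cfsg.Agent.BpExc Cfsg.Agent.BpExc.TorCent Cfsg.Agent.BpExc.TorChev Cfsg.Agent.BpExc.Tow
  Cfsg.Agent.BpExc.TowChev Cfsg.Agent.GpExc.Field
open Cfsg.Agent.OddHalf.NI.ModelChev Cfsg.Agent.H557.SignTorus Cfsg.Agent.H557.OrbE8 Cfsg.Agent.H557.ToralTypes
open Cfsg.Agent.H167.KKL

universe u

/-- number of roots with value `-1` -/
def cnt (m : ℕ) : ℕ := ((List.range 240).filter fun r => par 8 (m &&& cr r)).length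

/-- the parity table -/
def PT : ℕ := 47758914269546354982683078068829456704164423862093743397580034411621752859030

theorem PT_spec : ∀ x < 256, PT.testBit x = par 8 x := by decide +kernel

theorem range_cr : (List.range 240).map cr = ca.reverse ++ ca := by decide +kernel

/-- fast count -/
noncomputable def cntR (m : ℕ) (l : List ℕ) : ℕ :=
  List.rec 0 (fun c _ ih => Nat.add ih (Nat.land (Nat.shiftRight PT (Nat.land m c)) 1)) l

theorem cntR_spec {m : ℕ} (hm : m < 256) (l : List ℕ) :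
    cntR m l = (l.filter fun c => par 8 (m &&& c)).length := by
  induction l with
  | nil => rfl
  | cons c l ih =>
    have h1 : cntR m (c :: l) = cntR m l + ((PT >>> (m &&& c)) &&& 1) := rfl
    have h2 : m &&& c < 256 := lt_of_le_of_lt Nat.and_le_left hm
    have h3 := PT_spec _ h2
    rw [Nat.testBit_eq_decide_div_mod_eq, ← Nat.shiftRight_eq_div_pow, ← Nat.and_one_is_mod] at h3
    rw [h1, ih]
    by_cases hp : par 8 (m &&& c) = true
    · rw [hp, decide_eq_true_eq] at h3
      rw [h3, List.filter_cons, if_pos hp, List.length_cons]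
    · rw [Bool.not_eq_true] at hp
      rw [hp, decide_eq_false_iff_not] at h3
      have h4 : (PT >>> (m &&& c)) &&& 1 = 0 := by
        rw [Nat.and_one_is_mod] at h3 ⊢
        omega
      rw [h4, List.filter_cons, if_neg (by rw [hp]; decide), add_zero]

theorem cnt_eq {m : ℕ} (hm : m < 256) : cnt m = 2 * cntR m ca := by
  have h1 : cnt m = (((List.range 240).map cr).filter fun c => par 8 (m &&& c)).length := by
    rw [List.filter_map, List.length_map]
    rfl
  rw [h1, range_cr, List.filter_append, List.length_append, List.filter_reverse, List.length_reverse, cntR_spec hm]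
  omega

theorem cntR_cases : ∀ m < 256, (cntR m ca = 64 ∧ O_TabD8.testBit m = true) ∨ cntR m ca = 56 ∨ cntR m ca = 0 := by
  decide +kernel

theorem cnt_cases {m : ℕ} (hm : m < 256) :
    (cnt m = 128 ∧ O_TabD8.testBit m = true) ∨ cnt m = 112 ∨ cnt m = 0 := by
  rw [cnt_eq hm]
  rcases cntR_cases m hm with ⟨h1, h2⟩ | h1 | h1
  · exact Or.inl ⟨by rw [h1], h2⟩
  · exact Or.inr (Or.inl (by rw [h1]))
  · exact Or.inr (Or.inr (by rw [h1]))

theorem sum_sign {k : Type u} [Ring k] (f : ℕ → Bool) (n : ℕ) :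
    ∑ s : Fin n, (if f s then (-1 : k) else 1) = (n : k) - 2 * ((((List.range n).filter fun r => f r).length : ℕ) : k) := by
  induction n with
  | zero => simp
  | succ n ih =>
    rw [Fin.sum_univ_castSucc]
    simp only [Fin.val_castSucc, Fin.val_last]
    rw [ih, List.range_succ, List.filter_append, List.length_append]
    by_cases hf : f n = true
    · rw [if_pos hf, List.filter_cons_of_pos hf, List.filter_nil, List.length_singleton, Nat.cast_add, Nat.cast_add,
        Nat.cast_one, mul_add]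
      abel_nf
      norm_num
    · rw [if_neg hf, List.filter_cons_of_neg hf, List.filter_nil, List.length_nil, add_zero, Nat.cast_add, Nat.cast_one]
      abel

section E8

variable (hp : IsType chevE8 8 CoxeterMatrix.E₈) {k : Type u} [Field k] (p : ℕ) [Fact p.Prime] [CharP k p]

include p in
/-- the trace of an involution of the torus -/
theorem trL_mask (hk : LocFin k) (m : ℕ) : trL chevE8 (th hp (sg k 8 m)) = 248 - 2 * (cnt m : k) := by
  unfold trL
  rw [H892.El.coe_TT hp (r := p) hk (th_mem hp _), Matrix.trace_diagonal]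
  unfold H892.El.dd
  rw [Fintype.sum_sum_type]
  simp only [Sum.elim_inl, Sum.elim_inr]
  rw [Finset.sum_const, Finset.card_univ, Fintype.card_fin]
  have h1 : ∑ s : Fin chevE8.nroots, ch hp (vec chevE8 8 s) (th hp (sg k 8 m)) =
      ∑ s : Fin chevE8.nroots, (if par 8 (m &&& cr s) then (-1 : k) else 1) :=
    Finset.sum_congr rfl fun s _ => ch_mask hp s.2 m
  rw [h1, sum_sign (fun s => par 8 (m &&& cr s)) chevE8.nroots, nroots_E8]
  have h2 : chevE8.rank = 8 := rfl
  rw [h2]
  unfold cnt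
  norm_num
  ring

/-- an involution of trace `-8` belongs to the orbit of 135 -/
theorem orb_of_trace (hk : LocFin k) (hp2 : p ≠ 2) {m : ℕ} (hm : m < 256)
    (h : trL chevE8 (th hp (sg k 8 m)) = -8) : O_TabD8.testBit m = true := by
  rw [trL_mask hp p hk] at h
  have hpo : ∀ n : ℕ, (((2 : ℕ) ^ n : ℕ) : k) ≠ 0 := by
    intro n hn
    rw [CharP.cast_eq_zero_iff k p] at hn
    have hpp : p.Prime := Fact.out
    exact hp2 ((Nat.prime_dvd_prime_iff_eq hpp Nat.prime_two).1 (hpp.dvd_of_dvd_pow hn))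
  rcases cnt_cases hm with h1 | h1 | h1
  · exact h1.2
  · exfalso
    apply hpo 5
    rw [h1] at h
    push_cast at h ⊢
    linear_combination h
  · exfalso
    apply hpo 8
    rw [h1] at h
    push_cast at h ⊢
    linear_combination h

/-- the trace is invariant under conjugation -/
theorem trL_conj {D : ChevalleyDatum} (g x : ↥(D.group k)) : trL D (g * x * g⁻¹) = trL D x := by
  unfold trL
  rw [Subgroup.coe_mul, Subgroup.coe_mul, Subgroup.coe_inv, Units.val_mul, Units.val_mul]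
  exact Matrix.trace_units_conj _ _

/-- **the fixed points of the Frobenius map** -/
theorem fix_range {F : Type u} [Field F] [Fintype F] (hk : LocFin k) {φ : k →+* k}
    (hφ : ∀ t, φ t = t ^ Fintype.card F) (f : F →+* k) {w : ↥(chevE8.group k)} (hw : emb hp.inList φ w = w) :
    w ∈ (emb hp.inList f).range := by
  have hw' : glMap chevE8 φ (w : GL chevE8.Idx k) = w := by rw [← coe_emb hp.inList, hw]
  obtain ⟨a, ha, t, ht, e⟩ := EmbSplit.untw_split hp.inList (Emb.fix_iff_range (f := f) hφ) w.2 hw'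
  have hta : t ∈ chevE8.group k := diagonal_le_group hp.inList _ ht
  have hσ : ∀ x : ↥(chevE8.group F), emb hp.inList φ (emb hp.inList f x) = emb hp.inList f x := by
    intro x
    have hc : φ.comp f = f := RingHom.ext fun s => (Emb.fix_iff_range hφ (f s)).2 ⟨s, rfl⟩
    rw [emb_comp, hc]
  set t' : ↥(chevE8.group k) := ⟨t, hta⟩ with ht'
  set a' : ↥(chevE8.group F) := ⟨a, ha⟩ with ha'
  have e' : w = emb hp.inList f a' * t' := Subtype.ext e
  have h1 : emb hp.inList φ t' = t' := by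
    have h2 : t' = (emb hp.inList f a')⁻¹ * w := by rw [e']; group
    conv_lhs => rw [h2, map_mul, map_inv, hσ, hw]
    exact h2.symm
  obtain ⟨b, hb⟩ := exists_th hp hk (t := t') (Subgroup.mem_subgroupOf.2 ht)
  rw [← hb, emb_th] at h1
  have h3 := th_injective hp h1
  have h4 : ∀ i, ∃ c : Fˣ, Units.map (f : F →* k) c = b i := by
    intro i
    have h5 : φ (b i : k) = b i := by
      have := congrArg Units.val (congrFun h3 i)
      exact this
    obtain ⟨c, hc⟩ := (Emb.fix_iff_range hφ _).1 h5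
    have hc0 : c ≠ 0 := by
      rintro rfl
      rw [map_zero] at hc
      exact (b i).ne_zero hc.symm
    exact ⟨Units.mk0 c hc0, Units.ext hc⟩
  choose c hc using h4
  refine ⟨a' * th hp c, ?_⟩
  rw [map_mul, emb_th, e', ← hb]
  congr 2
  funext i
  exact hc i

end E8

end Cfsg.Agent.H749.KKL

private theorem dce_4d5d10a268fd : _root_.True := by
  try have : _root_.True := by simp only [_root_.Cfsg.Agent.GpExc.Field.emb.congr_simp]
  exact _root_.True.intro
end

-- part: H749/KKL/P5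
section
set_option linter.all false
open scoped Cfsg.Agent.FastGrp

/-!
# S4546, row `E₈(q)`, `q` odd: the end (P5, helper749)

No configuration `Cfg0 D x` in `E₈(q)` such that all involutions of `D` have trace `-8` and `D` is conjugate over the
algebraic closure into the torus.
-/

set_option autoImplicit false
set_option linter.unusedSectionVars false

namespace Cfsg.Agent.H749.KKL

open CoxeterSystem Cfsg Cfsg.Lie Cfsg.Lie.ChevalleyDatum
open Cfsg.Agent.ChevalleyStructure Cfsg.Agent.ChevalleyStructure.Elts Cfsg.Agent.ChevalleyStructure.CoxeterGeom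
  Cfsg.Agent.ChevalleyStructure.CoxeterGeomTypes Cfsg.Agent.ChevalleyStructure.NPerm
open Cfsg.Agent.Tits.Roots Cfsg.Agent.Tits.Core Cfsg.Agent.Nodes Cfsg.Agent.Nodes.Reps Cfsg.Agent.Nodes.BNOf
  Cfsg.Agent.Nodes.RGDChev Cfsg.Agent.Nodes.Bruhat Cfsg.Agent.Nodes.NormalForm
open Cfsg.Agent.KFacts.RgdField Cfsg.Agent.KFacts.RgdChevCoord
open Cfsg.Agent.BpExc Cfsg.Agent.BpExc.TorCent Cfsg.Agent.BpExc.TorChev Cfsg.Agent.BpExc.Tow
  Cfsg.Agent.BpExc.TowChev Cfsg.Agent.GpExc.Field
open Cfsg.Agent.OddHalf.NI.ModelChev Cfsg.Agent.H557.SignTorus Cfsg.Agent.H557.OrbE8 Cfsg.Agent.H557.ToralTypes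
open Cfsg.Agent.H795.SetCent
open Cfsg.Agent.H167.KKL Cfsg.Agent.H613.KKL

universe u

section EZ

variable {D : ChevalleyDatum} {l : ℕ} {M : CoxeterMatrix (Fin l)} (hp : IsType D l M) {k : Type u} [Field k]
  (p : ℕ) [Fact p.Prime] [CharP k p] (hk : LocFin k)

include p hk in
/-- the involutions of the torus annihilated by the roots annihilated by `Z` -/
def EZ (Z : Set ↥(D.group k)) : Subgroup ↥(D.group k) where
  carrier := {t | t ∈ TT D k ∧ t * t = 1 ∧ ∀ a, IsRoot M.toCoxeterSystem hp.isCartan a → (∀ z ∈ Z, ch hp a z = 1) →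
    ch hp a t = 1}
  one_mem' := by
    refine ⟨one_mem _, mul_one _, fun a ha _ => ?_⟩
    have C := coordsL hp M.toCoxeterSystem hk p
    have h1 := (C.coord a ha).chi_mul (one_mem (TT D k)) (one_mem _)
    rw [mul_one] at h1
    exact (mul_eq_left₀ ((C.coord a ha).chi_ne_zero (one_mem _))).1 h1.symm
  mul_mem' := by
    rintro s t ⟨h1, h2, h3⟩ ⟨h4, h5, h6⟩
    have C := coordsL hp M.toCoxeterSystem hk p
    have hc : s * t = t * s := congrArg Subtype.val (comm_TT hp ⟨s, h1⟩ ⟨t, h4⟩)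
    refine ⟨mul_mem h1 h4, ?_, fun a ha hz => ?_⟩
    · calc s * t * (s * t) = s * t * (t * s) := by rw [← hc]
        _ = s * (t * t) * s := by group
        _ = 1 := by rw [h5, mul_one, h2]
    · rw [(C.coord a ha).chi_mul h1 h4, h3 a ha hz, h6 a ha hz, mul_one]
  inv_mem' := by
    rintro s ⟨h1, h2, h3⟩
    have h4 : s⁻¹ = s := inv_eq_of_mul_eq_one_right h2
    rw [Set.mem_ofPred_eq, h4]
    exact ⟨h1, h2, h3⟩

theorem EZ_comm {Z : Set ↥(D.group k)} {a b : ↥(D.group k)} (ha : a ∈ EZ hp p hk Z) (hb : b ∈ EZ hp p hk Z) :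
    a * b = b * a := congrArg Subtype.val (comm_TT hp ⟨a, ha.1⟩ ⟨b, hb.1⟩)

/-- **`EZ` is invariant under the normalizer of `Z`.** -/
theorem EZ_conj [Finite M.Group] {ι : Type*} [Finite ι] {s t : ι → ↥(D.group k)} (hs : ∀ i, s i ∈ TT D k)
    (ht : ∀ i, ∃ j, t i = s j) {n : ↥(D.group k)} (e : ∀ i, n * s i = t i * n) {x : ↥(D.group k)}
    (hx : x ∈ EZ hp p hk (Set.range s)) : n * x * n⁻¹ ∈ EZ hp p hk (Set.range s) := by
  have H := tow hp M.toCoxeterSystem hk p
  have C := coordsL hp M.toCoxeterSystem hk p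
  have hT := TL_eq hp hk
  have hX := XL_eq hp hk
  have C' : Coords M.toCoxeterSystem hp.isCartan (TL (Tj hp (k := k))) (nc hp k) (XL (Xj hp)) (xc hp) (ch hp) := by
    rw [hT, hX]; exact C
  have ht' : ∀ i, t i ∈ TT D k := fun i => by
    obtain ⟨j, hj⟩ := ht i
    rw [hj]; exact hs j
  obtain ⟨m, hm, w, g, hg, hgs, rfl⟩ := exists_formZ H C' (ι := ι) (s := s) (t := t) (fun i => by rw [hT]; exact hs i)
    (fun i => by rw [hT]; exact ht' i) (c := n) (by rw [GG_eq_top hp _ hk]; exact Subgroup.mem_top n) e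
  obtain ⟨hx1, hx2, hx3⟩ := hx
  -- the characters of `g x g⁻¹`
  have hgx : g * x * g⁻¹ ∈ TT D k := by
    have h1 := hg.mem_normalizer
    rw [hT] at h1
    exact (Subgroup.mem_normalizer_iff.1 h1 x).1 hx1
  have key : ∀ a, IsRoot M.toCoxeterSystem hp.isCartan a → (∀ i, ch hp a (t i) = 1) → ch hp a (g * x * g⁻¹) = 1 := by
    intro a ha h
    have hb : IsRoot M.toCoxeterSystem hp.isCartan (rep M.toCoxeterSystem hp.isCartan w⁻¹ a) := ha.act _
    have h1 : ∀ y ∈ TT D k, ch hp a (g * y * g⁻¹) = ch hp (rep M.toCoxeterSystem hp.isCartan w⁻¹ a) y := by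
      intro y hy
      have h2 := C'.chi_rp H.nsys hg hb (t := y) (by rw [hT]; exact hy)
      rwa [rep_apply_inv] at h2
    rw [h1 x hx1]
    refine hx3 _ hb ?_
    rintro _ ⟨i, rfl⟩
    rw [← h1 _ (hs i), hgs i, mul_inv_cancel_right]
    exact h i
  have hmx : m * (g * x * g⁻¹) = g * x * g⁻¹ * m := by
    have h1 : MMZ M.toCoxeterSystem hp.isCartan (XL (Xj hp)) (ch hp) (Set.range t) ≤
        MMZ M.toCoxeterSystem hp.isCartan (XL (Xj hp)) (ch hp) {g * x * g⁻¹} := by
      refine RGD.Sup_mono ?_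
      rintro a ⟨ha, h⟩
      refine ⟨ha, ?_⟩
      rintro _ rfl
      exact key a ha fun i => h _ ⟨i, rfl⟩
    have h2 := MMZ_le_centralizer C' (Z := {g * x * g⁻¹}) (by
      rw [hT]
      exact Set.singleton_subset_iff.2 hgx) (h1 hm)
    exact (Subgroup.mem_centralizer_iff.1 h2 _ rfl).symm
  have e1 : m * g * x * (m * g)⁻¹ = g * x * g⁻¹ := by
    calc m * g * x * (m * g)⁻¹ = m * (g * x * g⁻¹) * m⁻¹ := by group
      _ = g * x * g⁻¹ := by rw [hmx, mul_inv_cancel_right]
  rw [e1]
  refine ⟨hgx, ?_, fun a ha h => key a ha fun i => ?_⟩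
  · calc g * x * g⁻¹ * (g * x * g⁻¹) = g * (x * x) * g⁻¹ := by group
      _ = 1 := by rw [hx2]; group
  · obtain ⟨j, hj⟩ := ht i
    rw [hj]
    exact h _ ⟨j, rfl⟩

end EZ

section E8

variable (hp : IsType chevE8 8 CoxeterMatrix.E₈) (p : ℕ) [Fact p.Prime]

theorem cr_mem {r : ℕ} (hr : r < 240) : cr r ∈ ca := by
  have h1 : cr r ∈ (List.range 240).map cr := List.mem_map_of_mem (List.mem_range.2 hr)
  rw [range_cr, List.mem_append, List.mem_reverse, or_self] at h1
  exact h1

theorem exists_cr {c : ℕ} (hc : c ∈ ca) : ∃ r < 240, cr r = c := by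
  have h1 : c ∈ (List.range 240).map cr := by
    rw [range_cr, List.mem_append]
    exact Or.inr hc
  obtain ⟨r, hr, e⟩ := List.mem_map.1 h1
  exact ⟨r, List.mem_range.1 hr, e⟩

/-- the roots annihilated by a set of masks, in terms of the characters -/
theorem ch_mask_eq_one {k : Type u} [Field k] (h2 : (2 : k) ≠ 0) {r : ℕ} (hr : r < 240) (m : ℕ) :
    ch hp (vec chevE8 8 r) (th hp (sg k 8 m)) = 1 ↔ par 8 (m &&& cr r) = false := by
  rw [ch_mask hp (by rw [nroots_E8]; exact hr)]
  cases h : par 8 (m &&& cr r)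
  · simp
  · simp only [if_true, Bool.true_eq_false, iff_false]
    intro h3
    apply h2
    have h4 : (2 : k) = 1 - (-1) := by ring
    rw [h4, h3, sub_self]

theorem P5 {F : Type} [Field F] [Finite F] {k : Type} [Field k] [IsAlgClosed k] [Algebra F k] [CharP k p] (hk : LocFin k)
    (hp2 : p ≠ 2) {D : Subgroup ↥(chevE8.group F)} {x : ↥(chevE8.group F)} (hD : Cfg0 D x)
    (htr : ∀ d ∈ D, d ≠ 1 → trL chevE8 (emb hp.inList (algebraMap F k) d) = -8) (g : ↥(chevE8.group k))
    (hg : ∀ d ∈ D, g * emb hp.inList (algebraMap F k) d * g⁻¹ ∈ TT chevE8 k) : False := by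
  classical
  have := Fintype.ofFinite F
  have := Cfsg.Agent.BpExc.TowChev.finite_group (D := chevE8) (F := F)
  have hpp : p.Prime := Fact.out
  have hfW : Finite CoxeterMatrix.E₈.Group := finite_W hp CoxeterMatrix.E₈.toCoxeterSystem
  have h2 : (2 : k) ≠ 0 := by
    intro h
    have h1 : ((2 : ℕ) : k) = 0 := by exact_mod_cast h
    rw [CharP.cast_eq_zero_iff k p] at h1
    exact hp2 ((Nat.prime_dvd_prime_iff_eq hpp Nat.prime_two).1 h1)
  -- the Frobenius map
  have hcF : CharP F p := (RingHom.charP_iff (algebraMap F k) (algebraMap F k).injective p).2 inferInstance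
  obtain ⟨n, -, hn⟩ := FiniteField.card F p
  have hexp : ExpChar k p := ExpChar.prime hpp
  set φ : k →+* k := iterateFrobenius k p n with hφdef
  have hφ : ∀ t, φ t = t ^ Fintype.card F := by
    intro t
    rw [hφdef, iterateFrobenius_def, hn]
  set f : F →+* k := algebraMap F k with hf
  have hφf : φ.comp f = f := RingHom.ext fun s => (Emb.fix_iff_range hφ (f s)).2 ⟨s, rfl⟩
  set ι : ↥(chevE8.group F) →* ↥(chevE8.group k) := emb hp.inList f with hι
  have hιi : Function.Injective ι := emb_injective hp.inList f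
  -- the masks
  have hD8 : Nat.card D = 8 := hD.e8.card
  have hinv : ∀ d ∈ D, d * d = 1 := hD.e8.inv
  let s : D → ↥(chevE8.group k) := fun d => g * ι d * g⁻¹
  have hsT : ∀ d, s d ∈ TT chevE8 k := fun d => hg d d.2
  have hs1 : ∀ d, s d * s d = 1 := by
    intro d
    have h1 : s d * s d = g * ι (d * d) * g⁻¹ := by
      show g * ι d * g⁻¹ * (g * ι d * g⁻¹) = _
      rw [map_mul]; group
    rw [h1, hinv d d.2, map_one]; group
  have hsmul : ∀ a b : D, s (a * b) = s a * s b := by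
    intro a b
    show g * ι ((a * b : D) : ↥(chevE8.group F)) * g⁻¹ = g * ι a * g⁻¹ * (g * ι b * g⁻¹)
    rw [Subgroup.coe_mul, map_mul]; group
  have hsi : Function.Injective s := by
    intro a b hab
    have h1 : g * ι a * g⁻¹ = g * ι b * g⁻¹ := hab
    exact Subtype.ext (hιi (mul_left_cancel (mul_right_cancel h1)))
  choose m hm256 hm using fun d => exists_mask hp hk (hsT d) (hs1 d)
  have hmi : Function.Injective m := by
    intro a b hab
    apply hsi
    rw [← hm a, ← hm b, hab]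
  have hm1 : m 1 = 0 := by
    apply mask_inj hp h2 (hm256 1) (by norm_num)
    rw [hm, sg_zero, map_one]
    show g * ι ((1 : D) : ↥(chevE8.group F)) * g⁻¹ = 1
    rw [Subgroup.coe_one, map_one]; group
  have hmx : ∀ a b, m (a * b) = m a ^^^ m b := by
    intro a b
    apply mask_inj hp h2 (hm256 _) (Nat.xor_lt_two_pow (n := 8) (hm256 a) (hm256 b))
    rw [hm, sg_xor, map_mul, hm, hm, hsmul]
  have := Fintype.ofFinite D
  let U : Finset ℕ := Finset.univ.image m
  have hU : ∀ u, u ∈ U ↔ ∃ d, m d = u := by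
    intro u
    simp [U]
  have hUc : U.card = 8 := by
    rw [Finset.card_image_of_injective _ hmi, Finset.card_univ, ← Nat.card_eq_fintype_card, hD8]
  obtain ⟨e0, he256, heU, he1, he2⟩ := comb (U := U) ((hU 0).2 ⟨1, hm1⟩) (by
      intro a ha b hb
      obtain ⟨a', rfl⟩ := (hU a).1 ha
      obtain ⟨b', rfl⟩ := (hU b).1 hb
      exact (hU _).2 ⟨a' * b', hmx a' b'⟩) hUc (by
      intro u hu
      obtain ⟨d, rfl⟩ := (hU u).1 hu
      exact hm256 d) (by
      intro u hu hu0
      obtain ⟨d, rfl⟩ := (hU u).1 hu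
      apply orb_of_trace hp p hk hp2 (hm256 d)
      rw [hm]
      show trL chevE8 (g * ι d * g⁻¹) = -8
      rw [trL_conj]
      refine htr d d.2 fun h => hu0 ?_
      have h1 : d = 1 := Subtype.ext h
      rw [h1, hm1])
  -- membership in `EZ`
  set E := EZ hp p hk (Set.range s) with hE
  have hZ : ∀ r < 240, (∀ z ∈ Set.range s, ch hp (vec chevE8 8 r) z = 1) ↔ ∀ u ∈ U, par 8 (u &&& cr r) = false := by
    intro r hr
    constructor
    · intro h u hu
      obtain ⟨d, rfl⟩ := (hU u).1 hu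
      rw [← ch_mask_eq_one hp h2 hr, hm]
      exact h _ ⟨d, rfl⟩
    · rintro h _ ⟨d, rfl⟩
      rw [← hm d, ch_mask_eq_one hp h2 hr]
      exact h _ ((hU _).2 ⟨d, rfl⟩)
  have hmemE : ∀ m', th hp (sg k 8 m') ∈ E ↔
      ∀ c ∈ ca, (∀ u ∈ U, par 8 (u &&& c) = false) → par 8 (m' &&& c) = false := by
    intro m'
    constructor
    · rintro ⟨-, -, h⟩ c hc hcU
      obtain ⟨r, hr, rfl⟩ := exists_cr hc
      rw [← ch_mask_eq_one hp h2 hr]
      exact h _ (isRoot_vec hp _ (by rw [nroots_E8]; exact hr)) ((hZ r hr).2 hcU)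
    · intro h
      refine ⟨th_mem hp _, th_sg_mul_self hp m', fun a ha hz => ?_⟩
      obtain ⟨r, hr, rfl⟩ := (isRoot_iff hp _ a).1 ha
      rw [nroots_E8] at hr
      rw [ch_mask_eq_one hp h2 hr]
      exact h _ (cr_mem hr) ((hZ r hr).1 hz)
  have hEm : ∀ y ∈ E, ∃ m' < 256, th hp (sg k 8 m') = y := fun y hy => exists_mask hp hk hy.1 hy.2.1
  have hUm : ∀ m' < 256, (∀ d ∈ D, th hp (sg k 8 m') ≠ g * ι d * g⁻¹) → m' ∉ U := by
    intro m' _ h hu
    obtain ⟨d, rfl⟩ := (hU m').1 hu
    exact h d d.2 (hm d)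
  refine end_abs hD ι hιi (emb hp.inList φ) (fun a => ?_) g E ?_ (fun a ha b hb => EZ_comm hp p hk ha hb) ?_ ?_ ?_ ?_
    (e := th hp (sg k 8 e0)) ((hmemE e0).2 he1) ?_ ?_
  · rw [hι, emb_comp, hφf]
  · intro y
    refine ⟨1, Subtype.ext ?_⟩
    rw [pow_one, Subgroup.coe_pow, pow_two]
    exact y.2.2.1
  · intro y hy
    obtain ⟨m', -, rfl⟩ := hEm y hy
    exact emb_sg hp φ m'
  · intro d hd
    have h1 : g * ι d * g⁻¹ = th hp (sg k 8 (m ⟨d, hd⟩)) := (hm ⟨d, hd⟩).symm
    rw [h1, hmemE]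
    intro c _ hcU
    exact hcU _ ((hU _).2 ⟨_, rfl⟩)
  · intro n' hn' y hy
    choose! τ hτD hτ using hn'
    refine EZ_conj hp p hk (ι := D) (s := s) (t := fun d => g * ι (τ d) * g⁻¹) hsT
      (fun d => ⟨⟨τ d, hτD d d.2⟩, rfl⟩) (fun d => ?_) hy
    show n' * (g * ι d * g⁻¹) = g * ι (τ d) * g⁻¹ * n'
    rw [← hτ d d.2]; group
  · intro a ha b hb haD hbD
    obtain ⟨ma, hma, rfl⟩ := hEm a ha
    obtain ⟨mb, hmb, rfl⟩ := hEm b hb
    have h3 := (he2 ma hma ((hmemE ma).1 ha)).resolve_left (hUm ma hma haD)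
    have h4 := (he2 mb hmb ((hmemE mb).1 hb)).resolve_left (hUm mb hmb hbD)
    obtain ⟨d, hd⟩ := (hU _).1 h3
    obtain ⟨d', hd'⟩ := (hU _).1 h4
    refine ⟨(d * d' : D), (d * d').2, ?_⟩
    have h5 : m (d * d') = ma ^^^ mb := by
      rw [hmx, hd, hd', Nat.xor_comm e0 ma, Nat.xor_assoc, ← Nat.xor_assoc e0 e0, Nat.xor_self, Nat.zero_xor]
    have h6 : (th hp (sg k 8 ma))⁻¹ = th hp (sg k 8 ma) := inv_eq_of_mul_eq_one_right (th_sg_mul_self hp ma)
    have h7 : g * ι ((d * d' : D) : ↥(chevE8.group F)) * g⁻¹ = th hp (sg k 8 (m (d * d'))) := (hm (d * d')).symm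
    rw [h7, h5, h6, sg_xor, map_mul]
  · intro d hd h
    apply heU
    have h1 : m ⟨d, hd⟩ = e0 := mask_inj hp h2 (hm256 _) he256 (by rw [hm, h])
    exact (hU _).2 ⟨_, h1⟩
  · intro w _ hw
    exact fix_range hp hk hφ f hw

end E8

end Cfsg.Agent.H749.KKL
end
end
end
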